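import Cfsg.Agent.Lib.Spor.Fi23Thompson.Checks
import Cfsg.Agent.Lib.Spor.Fi23Three

/-!
The centralizer of a base transposition in Fi23: its Sylow subgroup, the transpositions in it, and the
normalizer of the base.
-/

set_option autoImplicit false
set_option maxRecDepth 100000

namespace Cfsg.Agent.Spor.Fi23Thompson

open Cfsg.Agent.Spor.CC
open Cfsg.Agent.Spor.Fi23Cert
open Cfsg.Agent.Spor.Fi23Cert.SylTwo (vv bT wh tWd baseV sylT bitOf)

/-- the fixed member of the base -/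
noncomputable abbrev d0 : pres.Grp := bT 4

/-- its centralizer -/
noncomputable abbrev K4 : Subgroup pres.Grp := Subgroup.centralizer ({d0} : Set pres.Grp)

theorem mem_K4 {x : pres.Grp} : x ∈ K4 ↔ x * d0 = d0 * x := Subgroup.mem_centralizer_singleton_iff

theorem d0_vec : d0 = vv 16 := by
  rw [d0, SylTwo.bT_vec (by norm_num), perm_ok.2.2]

theorem conjC_letters {i : ℕ} (hi : i < 23) : lettersOK 10 [SylTwo.Dat.baseC.getD i []] = true := by
  rw [List.getD_eq_getElem _ _ (by rw [SylTwo.base_letters.2.1]; exact hi)]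
  have h := SylTwo.base_letters.1
  simp only [lettersOK, List.all_eq_true] at h ⊢
  intro w hw
  rw [List.mem_singleton.mp hw]
  exact h _ (List.getElem_mem _)

theorem bT_class {i : ℕ} (hi : i < 23) : bT i ∈ conjugatesOf Below.tA :=
  Outer.transp_mem (conjC_letters hi)

theorem bT_pt {i : ℕ} (hi : i < 23) : Outer.IsPt (bT i) (Dat.pts.getD i 0) := by
  rw [← pts_ok.1 i hi]
  exact Outer.isPt_transp (conjC_letters hi)

theorem exists_g0 : ∃ g : pres.Grp, g * Below.tA * g⁻¹ = d0 :=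
  isConj_iff.mp (bT_class (by norm_num : (4 : ℕ) < 23))

/-- a conjugating element -/
noncomputable def g0 : pres.Grp := exists_g0.choose

theorem g0_spec : g0 * Below.tA * g0⁻¹ = d0 := exists_g0.choose_spec

theorem map_Ksub : Below.Ksub.map (MulAut.conj g0).toMonoidHom = K4 := by
  rw [← Below.centralizer_eq, K4, ← g0_spec]
  ext x
  simp only [Subgroup.mem_map, Subgroup.mem_centralizer_singleton_iff, MulEquiv.coe_toMonoidHom,
    MulAut.conj_apply]
  constructor
  · rintro ⟨y, hy, rfl⟩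
    simp only [mul_assoc, inv_mul_cancel_left]
    rw [← mul_assoc y, hy, mul_assoc]
  · intro hx
    refine ⟨g0⁻¹ * x * g0, ?_, by group⟩
    calc g0⁻¹ * x * g0 * Below.tA = g0⁻¹ * (x * (g0 * Below.tA * g0⁻¹)) * g0 := by group
      _ = g0⁻¹ * ((g0 * Below.tA * g0⁻¹) * x) * g0 := by rw [hx]
      _ = Below.tA * (g0⁻¹ * x * g0) := by group

/-- the conjugation from the standard subgroup -/
noncomputable def toK4 : Below.Ksub ≃* K4 :=
  (Subgroup.equivMapOfInjective _ _ (MulAut.conj g0).injective).trans (MulEquiv.subgroupCongr map_Ksub)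

theorem toK4_val (s : Below.Ksub) : (toK4 s : pres.Grp) = g0 * (s : pres.Grp) * g0⁻¹ := rfl

theorem card_K4 : Nat.card K4 = 129123503308800 := by
  rw [← Nat.card_congr toK4.toEquiv, Below.card_Ksub.2]

theorem conj_class {e : pres.Grp} (he : e ∈ conjugatesOf Below.tA) (g : pres.Grp) :
    g * e * g⁻¹ ∈ conjugatesOf Below.tA := by
  obtain ⟨c, rfl⟩ := isConj_iff.mp he
  exact isConj_iff.mpr ⟨g * c, by group⟩

theorem class_sq {e : pres.Grp} (he : e ∈ conjugatesOf Below.tA) : e * e = 1 := by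
  rw [← pow_two, ← Below.class_transp.1.1 e he, pow_orderOf_eq_one]

/-! ### the Sylow subgroup -/

theorem bT_mem_K4 {i : ℕ} (hi : i < 23) : bT i ∈ K4 := mem_K4.mpr (SylTwo.bT_comm hi (by norm_num))

theorem vv_mem_K4 (m : ℕ) : vv m ∈ K4 := by
  rw [mem_K4, d0_vec, SylTwo.vv_comm]

theorem baseV_le_K4 : baseV ≤ K4 := by
  rintro _ ⟨m, -, rfl⟩
  exact vv_mem_K4 m

theorem gP_old {j : ℕ} (hj : j < 4) : gP j = SylTwo.Dat.genP.getD j [] ∧ gW j = SylTwo.Dat.genW.getD j [] := by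
  have h1 : SylTwo.Dat.genP.length = 4 ∧ SylTwo.Dat.genW.length = 4 := by decide +kernel
  constructor
  · rw [gP, List.getD_append _ _ _ _ (by omega)]
  · rw [gW, List.getD_append _ _ _ _ (by omega)]

theorem gP_new : gP 4 = Dat.newP ∧ gW 4 = Dat.newW := by decide +kernel

/-- the elements normalising the base -/
noncomputable def gg (j : ℕ) : pres.Grp := wh (gW j)

theorem gg_conj {j : ℕ} (hj : j < 5) {x : ℕ} (hx : x < 23) :
    gg j * bT x * (gg j)⁻¹ = bT ((gP j).getD x 0) := by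
  have key : ∀ (u : List ℕ) (y : ℕ), wh (u ++ tWd x ++ u.reverse ++ tWd y) = 1 →
      wh u * bT x * (wh u)⁻¹ = bT y := by
    intro u y h
    simp only [SylTwo.wh_append, SylTwo.wh_rev] at h
    change wh u * bT x * (wh u)⁻¹ * bT y = 1 at h
    rw [eq_inv_of_mul_eq_one_left h, inv_eq_of_mul_eq_one_left (SylTwo.bT_sq y)]
  rcases Nat.lt_succ_iff_lt_or_eq.mp hj with h4 | rfl
  · obtain ⟨e1, e2⟩ := gP_old h4
    rw [gg, e1, e2]
    exact key _ _ (SylTwo.wh_one (SylTwo.conj_ok j h4) (List.mem_map.mpr ⟨x, List.mem_range.mpr hx, rfl⟩))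
  · rw [gg, gP_new.1, gP_new.2]
    exact key _ _ (SylTwo.wh_one new_ok (List.mem_map.mpr ⟨x, List.mem_range.mpr hx, rfl⟩))

theorem gg_mem_K4 {j : ℕ} (hj : j < 5) : gg j ∈ K4 := by
  have h := gg_conj hj (x := 4) (by norm_num)
  rw [(perm_ok.1 j hj).2.2.1] at h
  exact mem_K4.mpr (mul_inv_eq_iff_eq_mul.mp h)

theorem sylT_le_K4 : sylT ≤ K4 := by
  refine sup_le baseV_le_K4 ((Subgroup.closure_le _).mpr ?_)
  rintro _ ⟨j, hj, rfl⟩
  have := gg_mem_K4 (j := j) (by omega)
  rwa [gg, (gP_old hj).2] at this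

theorem sylT_two : IsPGroup 2 sylT := IsPGroup.of_card SylTwo.card_sylT

theorem sylT_index : ¬ 2 ∣ (sylT.subgroupOf K4).index := by
  have h := (sylT.subgroupOf K4).card_mul_index
  rw [Nat.card_congr (Subgroup.subgroupOfEquivOfLe sylT_le_K4).toEquiv, SylTwo.card_sylT, card_K4] at h
  omega

theorem finite_grp : Finite pres.Grp := order.1

theorem two_conj {B : Subgroup pres.Grp} (hB : B ≤ K4) (h2 : IsPGroup 2 B) :
    ∃ k ∈ K4, ∀ b ∈ B, k * b * k⁻¹ ∈ sylT := by
  haveI := finite_grp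
  haveI : Fact (Nat.Prime 2) := ⟨Nat.prime_two⟩
  let T0 : Sylow 2 K4 := (sylT_two.of_equiv (Subgroup.subgroupOfEquivOfLe sylT_le_K4).symm).toSylow sylT_index
  obtain ⟨T, hT⟩ := (h2.of_equiv (Subgroup.subgroupOfEquivOfLe hB).symm).exists_le_sylow
  obtain ⟨g, hg⟩ := MulAction.exists_smul_eq K4 T T0
  refine ⟨g, g.2, fun b hb => ?_⟩
  have h1 : (⟨b, hB hb⟩ : K4) ∈ (T : Subgroup K4) := hT (Subgroup.mem_subgroupOf.mpr hb)
  have h3 : MulAut.conj g ⟨b, hB hb⟩ ∈ ((g • T : Sylow 2 K4) : Subgroup K4) :=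
    ⟨_, h1, rfl⟩
  rw [hg] at h3
  exact Subgroup.mem_subgroupOf.mp h3

/-! ### the transpositions in it -/

theorem scan_ok {p : ℕ} (hp : p < 31671) : scanOK p = true := by
  have key : ∀ st ln, rangeOK scanOK st ln = true → st ≤ p → p < st + ln → scanOK p = true := by
    intro st ln h h1 h2
    have := List.all_eq_true.mp h (p - st) (List.mem_range.mpr (by omega))
    rwa [show Nat.add st (p - st) = p from Nat.add_sub_cancel' h1] at this
  rcases (show p < 4000 ∨ (4000 ≤ p ∧ p < 8000) ∨ (8000 ≤ p ∧ p < 12000) ∨ (12000 ≤ p ∧ p < 16000) ∨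
    (16000 ≤ p ∧ p < 20000) ∨ (20000 ≤ p ∧ p < 24000) ∨ (24000 ≤ p ∧ p < 28000) ∨ 28000 ≤ p by omega) with
    h | ⟨a, b⟩ | ⟨a, b⟩ | ⟨a, b⟩ | ⟨a, b⟩ | ⟨a, b⟩ | ⟨a, b⟩ | h
  exacts [key _ _ scan0 (Nat.zero_le _) (by omega), key _ _ scan1 a (by omega), key _ _ scan2 a (by omega),
    key _ _ scan3 a (by omega), key _ _ scan4 a (by omega), key _ _ scan5 a (by omega), key _ _ scan6 a (by omega),
    key _ _ scan7 h (by omega)]

theorem two_commute {a b : pres.Grp} (ha : a ∈ conjugatesOf Below.tA) (hb : b ∈ conjugatesOf Below.tA)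
    (ha' : a ∈ sylT) (hb' : b ∈ sylT) : a * b = b * a := by
  have hinv : ∀ {x : pres.Grp}, x ∈ conjugatesOf Below.tA → x⁻¹ = x := fun hx =>
    inv_eq_of_mul_eq_one_left (class_sq hx)
  have key : (a * b) ^ 2 = 1 := by
    rcases Below.class_transp.1.2 a ha b hb with h | h
    · exact h
    · obtain ⟨n, hn⟩ := sylT_two ⟨a * b, mul_mem ha' hb'⟩
      have hn' : (a * b) ^ 2 ^ n = 1 := congrArg Subtype.val hn
      have hd : orderOf (a * b) ∣ Nat.gcd 3 (2 ^ n) :=
        Nat.dvd_gcd (orderOf_dvd_of_pow_eq_one h) (orderOf_dvd_of_pow_eq_one hn')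
      rw [Nat.Coprime.gcd_eq_one ((show Nat.Coprime 3 2 by norm_num).pow_right n), Nat.dvd_one,
        orderOf_eq_one_iff] at hd
      rw [hd, one_pow]
  rw [pow_two] at key
  rw [eq_inv_of_mul_eq_one_left key, mul_inv_rev, hinv ha, hinv hb]

theorem transp_in {e : pres.Grp} (he : e ∈ conjugatesOf Below.tA) (heS : e ∈ sylT) : ∃ i < 23, e = bT i := by
  obtain ⟨p, hp⟩ := Outer.exists_pt he
  have hs := scan_ok hp.lt
  have hfix : ((List.range 7).all fun i => Nat.beq (ev RepA.rows 10 (tWd i) p) p) = true := by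
    rw [List.all_eq_true]
    intro i hi
    rw [List.mem_range] at hi
    have hi' : i < 23 := by omega
    have hc := two_commute (bT_class hi') he
      (SylTwo.baseV_le ⟨_, SylTwo.vec_lt hi', (SylTwo.bT_vec hi').symm⟩) heS
    have hfix := congrArg (Fin.val) ((hp.commute_iff (bT i)).mp hc)
    rw [bT, wh, ev_eq rep.valid pres.gen rep.hom rep.hom_gen (fun x hx => lettersOK_spec pts_ok.2.2.2
      (List.mem_map.mpr ⟨i, List.mem_range.mpr hi, rfl⟩) hx)] at hfix
    exact (Nat.beq_eq ..).mpr hfix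
  simp only [scanOK, hfix, Bool.not_true, Bool.false_or, List.contains_iff_mem] at hs
  obtain ⟨i, hi, hip⟩ := List.getElem_of_mem hs
  have hi' : i < 23 := by rw [pts_ok.2.1] at hi; exact hi
  refine ⟨i, hi', hp.inj ?_⟩
  have := bT_pt hi'
  rwa [List.getD_eq_getElem _ _ hi, hip] at this

theorem vec_transp {m : ℕ} (hm : m < 2048) (h : vv m ∈ conjugatesOf Below.tA) :
    ∃ i < 23, m = SylTwo.Dat.vecs.getD i 0 := by
  obtain ⟨i, hi, e⟩ := transp_in h (SylTwo.baseV_le ⟨m, hm, rfl⟩)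
  exact ⟨i, hi, SylTwo.vv_inj hm (SylTwo.vec_lt hi) (e.trans (SylTwo.bT_vec hi))⟩

/-! ### the normalizer of the base -/

theorem gg_conjV {j : ℕ} (hj : j < 5) (m : ℕ) :
    imgV j m < 2048 ∧ gg j * vv m * (gg j)⁻¹ = vv (imgV j m) := by
  let f : ℕ → ℕ → ℕ := fun r k => bif bitOf m k then Nat.xor r ((Dat.ims.getD j []).getD k 0) else r
  have key : ∀ n, n ≤ 11 → (List.range n).foldl f 0 < 2048 ∧
      gg j * SylTwo.vPart n m * (gg j)⁻¹ = vv ((List.range n).foldl f 0) := by
    intro n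
    induction n with
    | zero =>
      intro _
      refine ⟨by rw [List.range_zero, List.foldl_nil]; norm_num, ?_⟩
      rw [SylTwo.vPart, List.range_zero, List.foldl_nil, SylTwo.vv_zero]; group
    | succ n ih =>
      intro hn
      obtain ⟨hlt, he⟩ := ih (by omega)
      rw [List.range_succ, List.foldl_append, List.foldl_cons, List.foldl_nil]
      generalize (List.range n).foldl f 0 = r at hlt he
      obtain ⟨-, hy, -, him⟩ := perm_ok.1 j hj
      have hin := SylTwo.indep_lt (show n < 11 by omega)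
      show f r n < 2048 ∧ _ = vv (f r n)
      have hmul : gg j * SylTwo.vPart (n + 1) m * (gg j)⁻¹ = vv r * (gg j * SylTwo.piece m n * (gg j)⁻¹) := by
        rw [SylTwo.vPart, ← he]; group
      rw [hmul]
      simp only [f, SylTwo.piece]
      cases bitOf m n
      · simp [hlt]
      · rw [cond_true, cond_true, gg_conj hj hin, SylTwo.bT_vec (hy _ hin), him n (by omega)]
        exact ⟨SylTwo.xor_lt hlt (SylTwo.vec_lt (hy _ hin)), SylTwo.vv_mul _ _⟩
  obtain ⟨h1, h2⟩ := key 11 le_rfl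
  rw [← SylTwo.vv_eq] at h2
  exact ⟨h1, h2⟩

/-- the normalizer of the base inside the centralizer -/
noncomputable abbrev NK : Subgroup pres.Grp := K4 ⊓ Subgroup.normalizer (baseV : Set pres.Grp)

theorem gg_mem_NK {j : ℕ} (hj : j < 5) : gg j ∈ NK := by
  haveI := finite_grp
  refine ⟨gg_mem_K4 hj, ?_⟩
  have hle : baseV.map (MulAut.conj (gg j)).toMonoidHom ≤ baseV := by
    rintro _ ⟨_, ⟨m, -, rfl⟩, rfl⟩
    exact ⟨_, (gg_conjV hj m).1, (gg_conjV hj m).2.symm⟩
  have heq := Subgroup.eq_of_le_of_card_ge hle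
    (Subgroup.card_map_of_injective (MulAut.conj (gg j)).injective).ge
  refine Subgroup.mem_normalizer_iff.mpr fun h => ?_
  constructor
  · exact fun hh => heq ▸ ⟨h, hh, rfl⟩
  · intro hh
    rw [← heq] at hh
    obtain ⟨x, hx, hxe⟩ := hh
    exact (MulAut.conj (gg j)).injective hxe ▸ hx

theorem step_ok {k i : ℕ} (hk : k < 5) (hi : i < Dat.sizes.getD k 0) : stepOK k i = true := by
  have key : ∀ k st ln, rangeOK (stepOK k) st ln = true → st ≤ i → i < st + ln → stepOK k i = true := by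
    intro k st ln h h1 h2
    have := List.all_eq_true.mp h (i - st) (List.mem_range.mpr (by omega))
    rwa [show Nat.add st (i - st) = i from Nat.add_sub_cancel' h1] at this
  have hs : Dat.sizes = [22, 231, 1540, 231, 22] := rfl
  rw [hs] at hi
  interval_cases k <;> simp only [List.getD_cons_zero, List.getD_cons_succ] at hi
  · exact key _ _ _ step0 (Nat.zero_le _) (by omega)
  · exact key _ _ _ step1 (Nat.zero_le _) (by omega)
  · rcases lt_or_ge i 770 with h | h
    · exact key _ _ _ step2a (Nat.zero_le _) (by omega)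
    · exact key _ _ _ step2b h (by omega)
  · exact key _ _ _ step3 (Nat.zero_le _) (by omega)
  · exact key _ _ _ step4 (Nat.zero_le _) (by omega)

theorem el_spec {k i : ℕ} (hk : k < 5) (hi : i < Dat.sizes.getD k 0) :
    el k i < 2048 ∧ lab (el k i) = k ∧ place (el k i) = i := by
  have h := step_ok hk hi
  simp only [stepOK, Bool.and_eq_true] at h
  obtain ⟨⟨⟨h1, h2⟩, h3⟩, -⟩ := h
  exact ⟨Nat.le_of_ble_eq_true h1, Nat.eq_of_beq_eq_true h2, Nat.eq_of_beq_eq_true h3⟩

theorem chain {k : ℕ} (hk : k < 5) : ∀ i, i < Dat.sizes.getD k 0 →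
    ∃ n ∈ NK, n * vv (Dat.reps.getD k 0) * n⁻¹ = vv (el k i) := by
  intro i
  induction i using Nat.strong_induction_on with
  | _ i ih =>
    intro hi
    have h := step_ok hk hi
    simp only [stepOK, Bool.and_eq_true] at h
    obtain ⟨-, h4⟩ := h
    cases hb : Nat.beq i 0
    · rw [hb, cond_false] at h4
      simp only [Bool.and_eq_true] at h4
      obtain ⟨⟨hp, hj⟩, he⟩ := h4
      have hp' := Nat.le_of_ble_eq_true hp
      obtain ⟨n, hn, hne⟩ := ih _ hp' (lt_trans hp' hi)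
      have hj' : fld (Dat.gens.getD k 0) 4 i < 5 := Nat.le_of_ble_eq_true hj
      refine ⟨gg (fld (Dat.gens.getD k 0) 4 i) * n, mul_mem (gg_mem_NK hj') hn, ?_⟩
      rw [Nat.eq_of_beq_eq_true he, ← (gg_conjV hj' _).2, ← hne]
      group
    · rw [hb, cond_true] at h4
      rw [Nat.eq_of_beq_eq_true hb, Nat.eq_of_beq_eq_true h4]
      exact ⟨1, one_mem _, by group⟩

theorem cover_ok {m : ℕ} (hm : m < 2048) : coverOK m = true := by
  have key : ∀ st ln, rangeOK coverOK st ln = true → st ≤ m → m < st + ln → coverOK m = true := by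
    intro st ln h h1 h2
    have := List.all_eq_true.mp h (m - st) (List.mem_range.mpr (by omega))
    rwa [show Nat.add st (m - st) = m from Nat.add_sub_cancel' h1] at this
  rcases lt_or_ge m 1024 with h | h
  · exact key _ _ cover0 (Nat.zero_le _) (by omega)
  · exact key _ _ cover1 h (by omega)

theorem lab_cases {m : ℕ} (hm : m < 2048) :
    ((m = 0 ∨ m = 16) ∧ lab m = 7) ∨
      (m ≠ 0 ∧ m ≠ 16 ∧ lab m < 5 ∧ place m < Dat.sizes.getD (lab m) 0 ∧ el (lab m) (place m) = m) := by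
  have h := cover_ok hm
  simp only [coverOK, Bool.and_eq_true] at h
  have h1 := h.1
  cases hb : (Nat.beq m 0 || Nat.beq m 16)
  · rw [hb, cond_false] at h1
    simp only [Bool.and_eq_true] at h1
    obtain ⟨⟨a, b⟩, c⟩ := h1
    simp only [Bool.or_eq_false_iff] at hb
    exact Or.inr ⟨Nat.ne_of_beq_eq_false hb.1, Nat.ne_of_beq_eq_false hb.2, Nat.le_of_ble_eq_true a,
      Nat.le_of_ble_eq_true b, Nat.eq_of_beq_eq_true c⟩
  · rw [hb, cond_true] at h1
    simp only [Bool.or_eq_true] at hb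
    exact Or.inl ⟨hb.imp Nat.eq_of_beq_eq_true Nat.eq_of_beq_eq_true, Nat.eq_of_beq_eq_true h1⟩

theorem same_set {a b : ℕ} (ha : a < 2048) (hb : b < 2048) (e : lab a = lab b) (h5 : lab a < 5) :
    ∃ n ∈ NK, n * vv a * n⁻¹ = vv b := by
  obtain ⟨-, -, -, pa, ea⟩ := (lab_cases ha).resolve_left fun h => by omega
  obtain ⟨-, -, -, pb, eb⟩ := (lab_cases hb).resolve_left fun h => by omega
  obtain ⟨n, hn, hne⟩ := chain h5 _ pa
  obtain ⟨n', hn', hne'⟩ := chain (k := lab b) (e ▸ h5) _ pb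
  rw [ea] at hne
  rw [eb, ← e] at hne'
  refine ⟨n' * n⁻¹, mul_mem hn' (inv_mem hn), ?_⟩
  rw [← hne, ← hne']
  group

theorem first_spec {m : ℕ} (hm : m < 2048) :
    (lab m = 0 ↔ ((∃ i < 23, m = SylTwo.Dat.vecs.getD i 0) ∧ m ≠ 16)) ∧ (lab m = 4 ↔ lab (m ^^^ 16) = 0) := by
  have h := List.all_eq_true.mp first0 m (List.mem_range.mpr hm)
  rw [show Nat.add 0 m = m from Nat.zero_add m] at h
  simp only [firstOK, Bool.and_eq_true, beq_iff_eq] at h
  obtain ⟨h1, h2⟩ := h
  have hb : ∀ a b : ℕ, Nat.beq a b = decide (a = b) := fun a b => by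
    rw [Bool.eq_iff_iff, decide_eq_true_iff]
    exact ⟨Nat.eq_of_beq_eq_true, fun h => h ▸ Nat.beq_refl a⟩
  constructor
  · rw [Bool.eq_iff_iff] at h1
    simp only [hb, decide_eq_true_iff, Bool.and_eq_true, Bool.not_eq_true', decide_eq_false_iff_not,
      List.contains_iff_mem] at h1
    rw [h1]
    obtain ⟨-, hlen, -⟩ := SylTwo.vec_ok
    refine and_congr_left fun _ => ⟨fun hmem => ?_, ?_⟩
    · obtain ⟨i, hi, e⟩ := List.getElem_of_mem hmem
      exact ⟨i, hlen ▸ hi, by rw [List.getD_eq_getElem _ _ hi, e]⟩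
    · rintro ⟨i, hi, rfl⟩
      rw [List.getD_eq_getElem _ _ (by omega)]
      exact List.getElem_mem _
  · rw [Bool.eq_iff_iff] at h2
    simp only [hb, decide_eq_true_iff] at h2
    exact h2

end Cfsg.Agent.Spor.Fi23Thompson
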