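import Cfsg.Agent.Lib.Spor.Fi23Thompson.Defs

/-!
Kernel evaluations for the action of the normalizer of a base.
-/

set_option autoImplicit false
set_option maxRecDepth 100000

namespace Cfsg.Agent.Spor.Fi23Thompson

open Cfsg.Agent.Spor.CC
open Cfsg.Agent.Spor.Fi23Cert

theorem new_ok : Mult.oneOK newChk = true := by decide +kernel

theorem perm_ok : (∀ j < 5, ((gP j).length = 23 ∧ (∀ x < 23, (gP j).getD x 0 < 23) ∧ (gP j).getD 4 0 = 4 ∧
    (∀ k < 11, (Dat.ims.getD j []).getD k 0 = SylTwo.Dat.vecs.getD ((gP j).getD (SylTwo.Dat.indep.getD k 0) 0) 0))) ∧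
    lettersOK 10 [Dat.newW] = true ∧ SylTwo.Dat.vecs.getD 4 0 = 16 := by decide +kernel

theorem pts_ok : (∀ i < 23, ev RepA.rows 10 (SylTwo.Dat.baseC.getD i []) 8004 = Dat.pts.getD i 0) ∧
    Dat.pts.length = 23 ∧ Dat.sizes.length = 5 ∧ lettersOK 10 ((List.range 7).map SylTwo.tWd) = true := by
  decide +kernel

theorem step0 : rangeOK (stepOK 0) 0 22 = true := by decide +kernel

theorem step1 : rangeOK (stepOK 1) 0 231 = true := by decide +kernel

theorem step2a : rangeOK (stepOK 2) 0 770 = true := by decide +kernel

theorem step2b : rangeOK (stepOK 2) 770 770 = true := by decide +kernel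

theorem step3 : rangeOK (stepOK 3) 0 231 = true := by decide +kernel

theorem step4 : rangeOK (stepOK 4) 0 22 = true := by decide +kernel

theorem cover0 : rangeOK coverOK 0 1024 = true := by decide +kernel

theorem cover1 : rangeOK coverOK 1024 1024 = true := by decide +kernel

theorem first0 : rangeOK firstOK 0 2048 = true := by decide +kernel

theorem scan0 : rangeOK scanOK 0 4000 = true := by decide +kernel

theorem scan1 : rangeOK scanOK 4000 4000 = true := by decide +kernel

theorem scan2 : rangeOK scanOK 8000 4000 = true := by decide +kernel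

theorem scan3 : rangeOK scanOK 12000 4000 = true := by decide +kernel

theorem scan4 : rangeOK scanOK 16000 4000 = true := by decide +kernel

theorem scan5 : rangeOK scanOK 20000 4000 = true := by decide +kernel

theorem scan6 : rangeOK scanOK 24000 4000 = true := by decide +kernel

theorem scan7 : rangeOK scanOK 28000 3671 = true := by decide +kernel

theorem mask0 : rangeOK maskOK 0 16 = true := by decide +kernel

theorem mask1 : rangeOK maskOK 16 16 = true := by decide +kernel

theorem sizes_ok : sizeB (maskBits 1) = 23 ∧ sizeB (maskBits 16) = 23 ∧ sizeB (maskBits 19) = 276 ∧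
    sizeB (maskBits 31) = 2047 := by decide +kernel

theorem pairs_ok : SylTwo.Dat.vecs.all pairOK = true := by decide +kernel

theorem adj_ok : rangeOK adjOK 0 2048 = true := by decide +kernel

theorem bad_ok : Dat.reps.getD 0 0 = 1 := by decide +kernel

end Cfsg.Agent.Spor.Fi23Thompson
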