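import Mathlib

/-!
Orbitals of small valency of a transitive linear group: pairing of the two orbitals on lines.
-/

set_option autoImplicit false
set_option linter.unusedSectionVars false

namespace Cfsg.Agent.Spor.Fi23Thompson.Orbital

variable {ι : Type*} [Finite ι] (M : Subgroup (Equiv.Perm ι)) (op : ι → ι → ι) (e : ι) (T : Set ι)

/-- the orbit of the base point -/
def Orb : Set ι := {x | ∃ σ ∈ M, σ e = x}

/-- the orbit of a point under the stabilizer of the base point -/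
def Sub (a : ι) : Set ι := {b | ∃ σ ∈ M, σ e = e ∧ σ a = b}

/-- the orbital of the set `T` -/
def Rel (x y : ι) : Prop := ∃ σ ∈ M, σ e = x ∧ ∃ t ∈ T, σ t = y

/-- the hypotheses -/
structure Setup : Prop where
  lin : ∀ σ ∈ M, ∀ a b, σ (op a b) = op (σ a) (σ b)
  comm : ∀ a b, op a b = op b a
  cancel : ∀ a b, op a (op a b) = b
  stab : ∀ σ ∈ M, σ e = e → ∀ t ∈ T, σ t ∈ T
  trans : ∀ t ∈ T, ∀ u ∈ T, ∃ σ ∈ M, σ e = e ∧ σ t = u
  ne : e ∉ T
  disj : ∀ t ∈ T, op e t ∉ T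
  mem : ∀ t ∈ T, t ∈ Orb M e ∧ op e t ∈ Orb M e
  small : ∀ a ∈ Orb M e, a ≠ e → a ∉ T → op e a ∉ T → T.ncard < (Sub M e a).ncard

variable {M op e T} (h : Setup M op e T)

theorem Rel.smul {σ : Equiv.Perm ι} (hσ : σ ∈ M) {x y : ι} (hr : Rel M e T x y) :
    Rel M e T (σ x) (σ y) := by
  obtain ⟨τ, hτ, rfl, t, ht, rfl⟩ := hr
  exact ⟨σ * τ, mul_mem hσ hτ, rfl, t, ht, rfl⟩

include h

theorem rel_base {t : ι} (ht : t ∈ T) : Rel M e T e t := ⟨1, one_mem M, rfl, t, ht, rfl⟩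

theorem rel_mem {σ : Equiv.Perm ι} (hσ : σ ∈ M) {y : ι} (hr : Rel M e T (σ e) y) : σ⁻¹ y ∈ T := by
  obtain ⟨τ, hτ, hx, t, ht, rfl⟩ := hr
  have := h.stab (σ⁻¹ * τ) (mul_mem (inv_mem hσ) hτ) (by rw [Equiv.Perm.mul_apply, hx]; simp) t ht
  simpa using this

theorem rel_eq {y : ι} (hr : Rel M e T e y) : y ∈ T := by
  simpa using rel_mem h (one_mem M) (y := y) (by simpa using hr)

theorem rel_irrefl (x : ι) : ¬ Rel M e T x x := by
  rintro ⟨σ, -, hx, t, ht, hy⟩
  exact h.ne ((σ.injective (hx.trans hy.symm)) ▸ ht)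

theorem rel_disj {x y : ι} (hr : Rel M e T x y) : ¬ Rel M e T x (op x y) := by
  obtain ⟨σ, hσ, rfl, t, ht, rfl⟩ := hr
  intro hr'
  rw [← h.lin σ hσ] at hr'
  have := rel_mem h hσ hr'
  exact h.disj t ht (by simpa using this)

theorem sub_card {a : ι} :
    (Orb M e).ncard * (Sub M e a).ncard ≤ {p : ι × ι | ∃ σ ∈ M, σ e = p.1 ∧ σ a = p.2}.ncard := by
  choose s hs hse using fun x : Orb M e => x.2
  let f : Orb M e × Sub M e a → {p : ι × ι | ∃ σ ∈ M, σ e = p.1 ∧ σ a = p.2} := fun q =>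
    ⟨(q.1.1, s q.1 q.2.1), by
      obtain ⟨τ, hτ, he, ha⟩ := q.2.2
      exact ⟨s q.1 * τ, mul_mem (hs _) hτ, by rw [Equiv.Perm.mul_apply, he, hse], by
        rw [Equiv.Perm.mul_apply, ha]⟩⟩
  have hf : Function.Injective f := by
    rintro ⟨x, b⟩ ⟨x', b'⟩ eq
    simp only [f, Subtype.mk.injEq, Prod.mk.injEq] at eq
    obtain ⟨e1, e2⟩ := eq
    obtain rfl : x = x' := Subtype.ext e1
    rw [Subtype.ext ((s x).injective e2)]
  have := Nat.card_le_card_of_injective f hf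
  rwa [Nat.card_prod, Nat.card_coe_set_eq, Nat.card_coe_set_eq, Nat.card_coe_set_eq] at this

theorem rel_card : {p : ι × ι | Rel M e T p.1 p.2}.ncard = (Orb M e).ncard * T.ncard := by
  choose s hs hse using fun x : Orb M e => x.2
  let f : Orb M e × T → {p : ι × ι | Rel M e T p.1 p.2} := fun q =>
    ⟨(q.1.1, s q.1 q.2.1), ⟨s q.1, hs _, hse _, q.2.1, q.2.2, rfl⟩⟩
  have hf : Function.Bijective f := by
    constructor
    · rintro ⟨x, b⟩ ⟨x', b'⟩ eq
      have eq' : ((x : ι), s x b) = ((x' : ι), s x' b') := congrArg Subtype.val eq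
      obtain ⟨e1, e2⟩ := Prod.mk.inj eq'
      obtain rfl : x = x' := Subtype.ext e1
      rw [Subtype.ext ((s x).injective e2)]
    · rintro ⟨⟨x, y⟩, hr⟩
      have hx : x ∈ Orb M e := by
        obtain ⟨σ, hσ, hx, -⟩ := hr
        exact ⟨σ, hσ, hx⟩
      have hy := rel_mem h (hs ⟨x, hx⟩) (y := y) (by rw [hse]; exact hr)
      refine ⟨(⟨x, hx⟩, ⟨_, hy⟩), ?_⟩
      simp [f]
  have := Nat.card_eq_of_bijective f hf
  rw [Nat.card_prod, Nat.card_coe_set_eq, Nat.card_coe_set_eq, Nat.card_coe_set_eq] at this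
  exact this.symm

/-- one of the two orbitals contains the reverse of each pair of the first -/
theorem back {t : ι} (ht : t ∈ T) : Rel M e T t e ∨ Rel M e T t (op t e) := by
  obtain ⟨⟨σ, hσ, hse⟩, -⟩ := h.mem t ht
  set a := σ⁻¹ e with ha
  have hae : σ a = e := by simp [ha]
  by_contra hcon
  push Not at hcon
  have ha1 : a ∉ T := fun haT => hcon.1 ⟨σ, hσ, hse, a, haT, hae⟩
  have ha2 : op e a ∉ T := fun haT => hcon.2 ⟨σ, hσ, hse, _, haT, by rw [h.lin σ hσ, hse, hae]⟩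
  have ha3 : a ≠ e := fun heq => h.ne (by
    rw [heq] at hae
    exact (hse.symm.trans hae) ▸ ht)
  have ha4 : a ∈ Orb M e := ⟨σ⁻¹, inv_mem hσ, rfl⟩
  have hlt := h.small a ha4 ha3 ha1 ha2
  have hle : {p : ι × ι | ∃ τ ∈ M, τ e = p.1 ∧ τ a = p.2}.ncard ≤ {p : ι × ι | Rel M e T p.1 p.2}.ncard := by
    refine Set.ncard_le_ncard_of_injOn Prod.swap (fun p hp => ?_) (Prod.swap_injective.injOn) (Set.toFinite _)
    obtain ⟨τ, hτ, h1, h2⟩ := hp
    have := (rel_base h ht).smul (M := M) (σ := τ * σ⁻¹) (mul_mem hτ (inv_mem hσ))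
    rw [Equiv.Perm.mul_apply, Equiv.Perm.mul_apply, ← ha, show σ⁻¹ t = e by rw [← hse]; simp, h1, h2] at this
    exact this
  have hcard := (sub_card h (a := a)).trans (hle.trans (rel_card h).le)
  have hpos : 0 < (Orb M e).ncard := (Set.ncard_pos (Set.toFinite _)).mpr ⟨e, 1, one_mem M, rfl⟩
  exact absurd (Nat.le_of_mul_le_mul_left hcard hpos) (not_le.mpr hlt)

/-- the reverse of the first orbital is the second -/
theorem rev {x y : ι} (hr : Rel M e T x y) : Rel M e T y (op y x) := by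
  obtain ⟨σ, hσ, rfl, t, ht, rfl⟩ := hr
  rcases back h ht with hA | hA
  · exfalso
    have hsym : ∀ {u v}, Rel M e T u v → Rel M e T v u := by
      rintro u v ⟨τ, hτ, rfl, w, hw, rfl⟩
      obtain ⟨k, hk, hke, hkt⟩ := h.trans t ht w hw
      have := (hA.smul hk).smul (M := M) (σ := τ) hτ
      rwa [hkt, hke] at this
    set s := op e t with hs
    obtain ⟨-, τ, hτ, hse⟩ := h.mem t ht
    have hst : op s e = t := by rw [hs, h.comm, h.cancel]
    set b := τ⁻¹ e with hb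
    have hbe : τ b = e := by simp [hb]
    by_cases hbT : b ∈ T
    · exact h.disj t ht (rel_eq h (hsym ⟨τ, hτ, hse, b, hbT, hbe⟩))
    by_cases hbT' : op e b ∈ T
    · have h1 : Rel M e T s t := ⟨τ, hτ, hse, _, hbT', by rw [h.lin τ hτ, hse, hbe]; exact hst⟩
      refine rel_disj h hA ?_
      rw [h.comm t e]
      exact hsym h1
    have hb3 : b ≠ e := fun heq => by
      rw [heq] at hbe
      have h1 : s = e := hse.symm.trans hbe
      exact rel_disj h hA (by rw [h.comm t e, ← hs, h1]; exact hA)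
    have hb4 : b ∈ Orb M e := ⟨τ⁻¹, inv_mem hτ, rfl⟩
    have hlt := h.small b hb4 hb3 hbT hbT'
    have hle : {p : ι × ι | ∃ k ∈ M, k e = p.1 ∧ k b = p.2}.ncard ≤ {p : ι × ι | Rel M e T p.1 p.2}.ncard := by
      refine Set.ncard_le_ncard_of_injOn (fun p => (p.2, op p.2 p.1)) (fun p hp => ?_)
        (fun p _ q _ hpq => ?_) (Set.toFinite _)
      · obtain ⟨k, hk, h1, h2⟩ := hp
        have := (rel_base h ht).smul (M := M) (σ := k * τ⁻¹) (mul_mem hk (inv_mem hτ))
        rw [show t = op e s by rw [hs, h.cancel], h.lin _ (mul_mem hk (inv_mem hτ)), Equiv.Perm.mul_apply,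
          Equiv.Perm.mul_apply, ← hb, show τ⁻¹ s = e by rw [hs, ← hse]; simp, h1, h2] at this
        exact this
      · simp only [Prod.mk.injEq] at hpq
        obtain ⟨e1, e2⟩ := hpq
        rw [e1] at e2
        have := congrArg (op q.2) e2
        rw [h.cancel, h.cancel] at this
        exact Prod.ext this e1
    have hcard := (sub_card h (a := b)).trans (hle.trans (rel_card h).le)
    have hpos : 0 < (Orb M e).ncard := (Set.ncard_pos (Set.toFinite _)).mpr ⟨e, 1, one_mem M, rfl⟩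
    exact absurd (Nat.le_of_mul_le_mul_left hcard hpos) (not_le.mpr hlt)
  · have := hA.smul hσ
    rwa [h.lin σ hσ] at this

/-- the orbital has a permutation of order three without fixed points -/
theorem three_dvd : 3 ∣ (Orb M e).ncard * T.ncard := by
  classical
  haveI : Fintype ι := Fintype.ofFinite ι
  rw [← rel_card h]
  have hf : ∀ p : ι × ι, Rel M e T p.1 p.2 → Rel M e T p.2 (op p.2 p.1) := fun p hp => rev h hp
  let f : {p : ι × ι // Rel M e T p.1 p.2} → {p : ι × ι // Rel M e T p.1 p.2} :=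
    fun p => ⟨(p.1.2, op p.1.2 p.1.1), hf _ p.2⟩
  have h3 : ∀ p, f (f (f p)) = p := by
    rintro ⟨⟨x, y⟩, hp⟩
    apply Subtype.ext
    simp only [f]
    have e1 : op (op y x) y = x := by rw [h.comm, h.cancel]
    rw [e1, h.comm x (op y x), h.comm y x, h.comm (op x y) x, h.cancel]
  let σ : Equiv.Perm {p : ι × ι // Rel M e T p.1 p.2} :=
    { toFun := f, invFun := fun p => f (f p), left_inv := h3, right_inv := h3 }
  haveI : Fact (Nat.Prime 3) := ⟨Nat.prime_three⟩
  by_contra hdvd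
  have hd : ¬ 3 ∣ Fintype.card {p : ι × ι // Rel M e T p.1 p.2} := by
    rwa [← Nat.card_eq_fintype_card, ← Set.coe_setOf, Nat.card_coe_set_eq]
  obtain ⟨⟨⟨x, y⟩, hp⟩, hfix⟩ := Equiv.Perm.exists_fixed_point_of_prime (p := 3) (n := 1) hd
    (σ := σ) (Equiv.ext fun p => by
      simp only [pow_succ, pow_zero, one_mul, Equiv.Perm.mul_apply, Equiv.Perm.one_apply]
      exact h3 p)
  have := congrArg (fun p : {p : ι × ι // Rel M e T p.1 p.2} => p.1.1) hfix
  simp only [σ, f, Equiv.coe_fn_mk] at this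
  exact rel_irrefl h x (by rwa [this] at hp)

/-- the configuration of pairs is impossible -/
theorem no_pairs {t u : ι} (ht : t ∈ T) (hu : u ∈ T)
    (hadd : op t u ∈ Orb M e) (hout : op (op e t) u ∉ Orb M e)
    (hT : ∀ a ∈ T, ∀ b ∈ T, a ≠ b → op a b ∈ Orb M e) (hne : op t e ≠ u)
    (hadj : ∀ y ∈ Orb M e, op e y ∈ Orb M e → y = e ∨ y ∈ T ∨ op e y ∈ T) (hne' : t ≠ u)
    (hout' : op (op e u) t ∉ Orb M e) (hne'' : op u e ≠ t) : False := by
  have key : ∀ a b, a ∈ T → b ∈ T → op a b ∈ Orb M e → op (op e a) b ∉ Orb M e → op a e ≠ b → a ≠ b →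
      Rel M e T a (op a b) := by
    intro a b ha hb hab hnot hne hne'
    obtain ⟨⟨σ, hσ, hσe⟩, -⟩ := h.mem a ha
    have hinv : ∀ z, z ∈ Orb M e → σ⁻¹ z ∈ Orb M e := by
      rintro _ ⟨τ, hτ, rfl⟩
      exact ⟨σ⁻¹ * τ, mul_mem (inv_mem hσ) hτ, rfl⟩
    have himg : ∀ z, z ∈ Orb M e → σ z ∈ Orb M e := by
      rintro _ ⟨τ, hτ, rfl⟩
      exact ⟨σ * τ, mul_mem hσ hτ, rfl⟩
    have ea : σ⁻¹ a = e := by rw [← hσe]; simp
    have h1 : σ⁻¹ (op a b) = op e (σ⁻¹ b) := by rw [h.lin _ (inv_mem hσ), ea]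
    rcases hadj _ (hinv _ (h.mem b hb).1) (h1 ▸ hinv _ hab) with h0 | hU | hU'
    · exact absurd (σ⁻¹.injective (h0.trans ea.symm)).symm hne'
    · exfalso
      have hR := rev h (rel_base h ha)
      have hV := rel_mem h hσ (y := op a e) (by rw [hσe]; exact hR)
      have := himg _ (hT _ hV _ hU (fun heq => hne (σ⁻¹.injective heq)))
      rw [h.lin σ hσ] at this
      simp only [Equiv.Perm.coe_inv, Equiv.apply_symm_apply] at this
      rw [h.comm a e] at this
      exact hnot this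
    · exact ⟨σ, hσ, hσe, _, hU', by rw [h.lin σ hσ, hσe]; simp⟩
  have k1 := key t u ht hu hadd hout hne hne'
  have k2 := key u t hu ht (by rwa [h.comm]) hout' hne'' (Ne.symm hne')
  have k1' := rev h k1
  rw [h.comm (op t u) t, h.cancel] at k1'
  have k1'' := rev h k1'
  rw [h.comm u (op t u), h.comm t u, h.comm (op u t) u, h.cancel] at k1''
  exact rel_disj h k1'' k2

end Cfsg.Agent.Spor.Fi23Thompson.Orbital
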