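import Cfsg.Agent.Lib.Spor.Fi23Thompson.Base
import Cfsg.Agent.Lib.Spor.Fi23Thompson.Orbital

/-!
An orbit of a linear group on the vectors of the base which contains the fixed member and another vector, and
whose stabilizer is the normalizer in the centralizer, has twenty-three members.
-/

set_option autoImplicit false
set_option maxRecDepth 100000

namespace Cfsg.Agent.Spor.Fi23Thompson.Count

open Cfsg.Agent.Spor.Fi23Cert
open Cfsg.Agent.Spor.Fi23Cert.SylTwo (bitOf bitOf_eq)

/-- vectors -/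
abbrev V : Type := Fin 2048

/-- addition -/
def op (a b : V) : V := ⟨Nat.xor a b, Nat.xor_lt_two_pow (n := 11) a.2 b.2⟩

/-- the fixed member -/
def e16 : V := ⟨16, by norm_num⟩

/-- the first set -/
def TT : Set V := {v | lab v = 0}

theorem op_val (a b : V) : ((op a b : V) : ℕ) = (a : ℕ) ^^^ (b : ℕ) := rfl

theorem op_comm (a b : V) : op a b = op b a := Fin.ext (Nat.xor_comm _ _)

theorem op_cancel (a b : V) : op a (op a b) = b := Fin.ext (by
  show (a : ℕ) ^^^ ((a : ℕ) ^^^ b) = b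
  rw [← Nat.xor_assoc, Nat.xor_self, Nat.zero_xor])

theorem set_card {k : ℕ} (hk : k < 5) : {v : V | lab v = k}.ncard = Dat.sizes.getD k 0 := by
  let f : Fin (Dat.sizes.getD k 0) → {v : V | lab v = k} := fun i =>
    ⟨⟨el k i, (el_spec hk i.2).1⟩, (el_spec hk i.2).2.1⟩
  have hf : Function.Bijective f := by
    refine ⟨fun i j e => Fin.ext ?_, fun ⟨v, hv⟩ => ?_⟩
    · have e' : el k i = el k j := congrArg (fun w : {v : V | lab v = k} => ((w : V) : ℕ)) e
      have := congrArg place e'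
      rwa [(el_spec hk i.2).2.2, (el_spec hk j.2).2.2] at this
    · have hv' : lab (v : ℕ) = k := hv
      obtain ⟨-, -, -, hp, he⟩ := (lab_cases v.2).resolve_left fun h => by omega
      rw [hv'] at hp he
      exact ⟨⟨place v, hp⟩, Subtype.ext (Fin.ext he)⟩
  rw [← Nat.card_coe_set_eq, ← Nat.card_eq_of_bijective f hf, Nat.card_fin]

theorem lor_bit {m : ℕ} (v : ℕ) : ∀ (l : List ℕ) (F : ℕ),
    bitOf (l.foldl (fun r k => bif bitOf m k then Nat.lor r (Dat.bits.getD k 0) else r) F) v = true ↔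
      bitOf F v = true ∨ ∃ k ∈ l, bitOf m k = true ∧ bitOf (Dat.bits.getD k 0) v = true
  | [], F => by simp
  | a :: l, F => by
    rw [List.foldl_cons, lor_bit v l, List.exists_mem_cons_iff]
    cases hb : bitOf m a
    · simp
    · rw [cond_true, show bitOf (Nat.lor F (Dat.bits.getD a 0)) v =
          (bitOf F v || bitOf (Dat.bits.getD a 0) v) by
        rw [bitOf_eq, bitOf_eq, bitOf_eq]; exact Nat.testBit_or ..]
      simp [or_assoc]

theorem maskBits_spec {m v : ℕ} (hv : v < 2048) :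
    bitOf (maskBits m) v = true ↔ v = 16 ∨ (lab v < 5 ∧ bitOf m (lab v) = true) := by
  rw [maskBits, lor_bit]
  have h16 : bitOf (Nat.shiftLeft 1 16) v = true ↔ v = 16 := by
    rw [bitOf_eq, show Nat.shiftLeft 1 16 = 2 ^ 16 from by decide, Nat.testBit_two_pow]
    simp [eq_comm]
  rw [h16]
  have h := cover_ok hv
  simp only [coverOK, Bool.and_eq_true, List.all_eq_true, List.mem_range, beq_iff_eq] at h
  refine or_congr_right ⟨?_, fun ⟨h5, hb⟩ => ⟨_, List.mem_range.mpr h5, hb, ?_⟩⟩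
  · rintro ⟨k, hk, hb, hv'⟩
    rw [List.mem_range] at hk
    rw [h.2 k hk] at hv'
    rw [Nat.eq_of_beq_eq_true hv']
    exact ⟨hk, hb⟩
  · rw [h.2 _ h5]
    exact Nat.beq_refl _

theorem filter_card (f : ℕ → Bool) :
    {v : V | f v = true}.ncard = ((List.range 2048).filter f).length := by
  rw [← SylTwo.card_filter_range, ← Nat.card_coe_set_eq, ← Nat.card_eq_finsetCard]
  exact Nat.card_congr
    { toFun := fun v => ⟨(v.1 : ℕ), Finset.mem_filter.mpr ⟨Finset.mem_range.mpr v.1.2, v.2⟩⟩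
      invFun := fun n => ⟨⟨n.1, Finset.mem_range.mp (Finset.mem_filter.mp n.2).1⟩, (Finset.mem_filter.mp n.2).2⟩
      left_inv := fun _ => rfl
      right_inv := fun _ => rfl }

theorem bit_of_props (p : ℕ → Prop) : ∃ M < 32, ∀ k < 5, (bitOf M k = true ↔ p k) := by
  classical
  refine ⟨(if p 0 then 1 else 0) + (if p 1 then 2 else 0) + (if p 2 then 4 else 0) + (if p 3 then 8 else 0) +
    (if p 4 then 16 else 0), by split_ifs <;> omega, fun k hk => ?_⟩
  interval_cases k <;> split_ifs <;> simp_all [bitOf_eq, Nat.testBit_eq_decide_div_mod_eq]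

/-- the hypotheses on the group -/
structure Hyp (M : Subgroup (Equiv.Perm V)) : Prop where
  lin : ∀ σ ∈ M, ∀ a b, σ (op a b) = op (σ a) (σ b)
  stab : ∀ σ ∈ M, σ e16 = e16 → ∀ t ∈ TT, σ t ∈ TT
  trans : ∀ a b : V, lab a = lab b → lab a < 5 → ∃ σ ∈ M, σ e16 = e16 ∧ σ a = b
  nonzero : (0 : V) ∉ Orbital.Orb M e16
  other : ∃ v ∈ Orbital.Orb M e16, v ≠ e16

variable {M : Subgroup (Equiv.Perm V)}

theorem orb_set (h : Hyp M) {a b : V} (e : lab a = lab b) (h5 : lab a < 5) (ha : a ∈ Orbital.Orb M e16) :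
    b ∈ Orbital.Orb M e16 := by
  obtain ⟨σ, hσ, -, hab⟩ := h.trans a b e h5
  obtain ⟨τ, hτ, rfl⟩ := ha
  exact ⟨σ * τ, mul_mem hσ hτ, hab⟩

theorem flip_first {v : V} (hv : v ∈ TT) : lab ((op e16 v : V) : ℕ) = 4 := by
  refine (first_spec (op e16 v).2).2.mpr ?_
  rw [op_val, show ((e16 : V) : ℕ) = 16 from rfl, Nat.xor_comm 16 (v : ℕ), Nat.xor_assoc, Nat.xor_self,
    Nat.xor_zero]
  exact hv

theorem flip_last {v : V} (hv : lab (v : ℕ) = 4) : op e16 v ∈ TT := by
  show lab ((op e16 v : V) : ℕ) = 0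
  rw [op_val, show ((e16 : V) : ℕ) = 16 from rfl, Nat.xor_comm 16 (v : ℕ)]
  exact (first_spec v.2).2.mp hv

theorem result (h : Hyp M) : (Orbital.Orb M e16).ncard = 23 := by
  classical
  set O := Orbital.Orb M e16 with hO
  obtain ⟨m, hm, hbits⟩ := bit_of_props fun k => ∀ hlt : Dat.reps.getD k 0 < 2048, (⟨_, hlt⟩ : V) ∈ O
  have hrep : ∀ k < 5, ∃ _ : Dat.reps.getD k 0 < 2048, lab (Dat.reps.getD k 0) = k := by decide +kernel
  have he : e16 ∈ O := ⟨1, one_mem M, rfl⟩
  have hlab0 : lab 0 = 7 := by decide +kernel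
  have hmem : ∀ v : V, v ∈ O ↔ bitOf (maskBits m) v = true := by
    intro v
    rw [maskBits_spec v.2]
    rcases lab_cases v.2 with ⟨h0 | h16, -⟩ | ⟨-, h16, h5, -⟩
    · rw [h0, hlab0, show v = 0 from Fin.ext h0]
      exact iff_of_false h.nonzero (by rintro (h1 | ⟨h1, -⟩) <;> omega)
    · exact iff_of_true ((show v = e16 from Fin.ext h16) ▸ he) (Or.inl h16)
    · obtain ⟨hlt, hlab⟩ := hrep _ h5
      constructor
      · intro hv
        exact Or.inr ⟨h5, (hbits _ h5).mpr fun _ => orb_set h hlab.symm h5 hv⟩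
      · rintro (h1 | ⟨-, hb⟩)
        · exact absurd h1 h16
        · exact orb_set h (a := ⟨_, hlt⟩) hlab (lt_of_eq_of_lt hlab h5) ((hbits _ h5).mp hb hlt)
  have hOeq : O = {v : V | bitOf (maskBits m) v = true} := Set.ext hmem
  have hsize : O.ncard = sizeB (maskBits m) := by rw [hOeq, sizeB, filter_card]
  have hclosed : ∀ τ ∈ M, ∀ z ∈ O, τ z ∈ O := by
    rintro τ hτ _ ⟨ρ, hρ, rfl⟩
    exact ⟨τ * ρ, mul_mem hτ hρ, rfl⟩
  -- the invariant
  have hinv : ∀ x ∈ O, cnt (maskBits m) 16 = cnt (maskBits m) (x : ℕ) := by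
    have hc : ∀ x : V, {y : V | y ∈ O ∧ op x y ∈ O}.ncard = cnt (maskBits m) (x : ℕ) := by
      intro x
      rw [cnt, ← filter_card]
      congr 1
      ext y
      simp only [Set.mem_setOf_eq, hmem, Bool.and_eq_true]
      rfl
    rintro x ⟨σ, hσ, rfl⟩
    rw [← hc, show (16 : ℕ) = (e16 : ℕ) from rfl, ← hc,
      ← Set.ncard_image_of_injective {y : V | y ∈ O ∧ op e16 y ∈ O} σ.injective]
    congr 1
    ext z
    constructor
    · rintro ⟨y, ⟨hy, hy'⟩, rfl⟩
      exact ⟨hclosed σ hσ y hy, by rw [← h.lin σ hσ]; exact hclosed σ hσ _ hy'⟩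
    · rintro ⟨hz, hz'⟩
      refine ⟨σ⁻¹ z, ⟨hclosed _ (inv_mem hσ) z hz, ?_⟩, by simp⟩
      have := hclosed _ (inv_mem hσ) _ hz'
      rw [h.lin _ (inv_mem hσ)] at this
      simpa using this
  have hmask : maskOK m = true := by
    rcases lt_or_ge m 16 with h' | h'
    · have := List.all_eq_true.mp mask0 m (List.mem_range.mpr h')
      rwa [show Nat.add 0 m = m from Nat.zero_add m] at this
    · have := List.all_eq_true.mp mask1 (m - 16) (List.mem_range.mpr (by omega))
      rwa [show Nat.add 16 (m - 16) = m from Nat.add_sub_cancel' h'] at this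
  simp only [maskOK, Bool.or_eq_true, Bool.and_eq_true, Bool.not_eq_true'] at hmask
  rcases hmask with hmask | ⟨⟨hb5, hbm⟩, hne⟩
  swap
  · exfalso
    have hb5' : Dat.bad.getD m 9 < 5 := Nat.le_of_ble_eq_true hb5
    obtain ⟨hlt, -⟩ := hrep _ hb5'
    exact Nat.ne_of_beq_eq_false hne (hinv _ ((hbits _ hb5').mp hbm hlt))
  have hfull : ∀ k : ℕ, k < 5 → bitOf m k = true → ∀ v : V, lab v = k → v ∈ O := fun k hk hb v hv =>
    (hmem v).mpr ((maskBits_spec v.2).mpr (Or.inr ⟨hv ▸ hk, by rw [hv]; exact hb⟩))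
  have hTTcard : TT.ncard = 22 := set_card (k := 0) (by norm_num)
  have setup : bitOf m 0 = true → bitOf m 4 = true → Orbital.Setup M op e16 TT := fun h0 h4 =>
    { lin := h.lin
      comm := op_comm
      cancel := op_cancel
      stab := h.stab
      trans := fun t ht u hu => h.trans t u
        ((show lab t = 0 from ht).trans (show lab u = 0 from hu).symm) (by rw [show lab t = 0 from ht]; norm_num)
      ne := fun he' => by
        have : lab 16 = 0 := he'
        revert this; decide +kernel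
      disj := fun t ht he' => by
        have h1 := flip_first ht
        rw [show lab ((op e16 t : V) : ℕ) = 0 from he'] at h1
        omega
      mem := fun t ht => ⟨hfull 0 (by norm_num) h0 t ht, hfull 4 (by norm_num) h4 _ (flip_first ht)⟩
      small := fun a ha hne hT hT' => by
        rw [hTTcard]
        rcases lab_cases a.2 with ⟨h0' | h16, -⟩ | ⟨-, -, h5, -⟩
        · exact absurd ((show a = 0 from Fin.ext h0') ▸ ha) h.nonzero
        · exact absurd (Fin.ext h16) hne
        have hsub : {v : V | lab v = lab a} ⊆ Orbital.Sub M e16 a := fun b hb =>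
          h.trans a b (Eq.symm hb) h5
        refine lt_of_lt_of_le ?_ (Set.ncard_le_ncard hsub (Set.toFinite _))
        rw [set_card h5]
        have hk0 : lab a ≠ 0 := hT
        have hk4 : lab a ≠ 4 := fun h' => hT' (flip_last h')
        rw [show Dat.sizes = [22, 231, 1540, 231, 22] from rfl]
        have : lab a = 1 ∨ lab a = 2 ∨ lab a = 3 := by omega
        rcases this with h' | h' | h' <;> rw [h'] <;> norm_num [List.getD_cons_succ, List.getD_cons_zero] }
  simp only [List.contains_iff_mem, List.mem_cons, List.not_mem_nil, or_false] at hmask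
  rcases hmask with rfl | rfl | rfl | rfl | rfl
  · exfalso
    obtain ⟨v, hv, hne⟩ := h.other
    rcases (maskBits_spec v.2).mp ((hmem v).mp hv) with h1 | ⟨h5, hb⟩
    · exact hne (Fin.ext h1)
    · rw [bitOf_eq, Nat.zero_testBit] at hb
      exact Bool.noConfusion hb
  · rw [hsize, sizes_ok.1]
  · rw [hsize, sizes_ok.2.1]
  · exfalso
    have hs := setup (by decide) (by decide)
    have hp : ∀ a b : V, a ∈ TT → b ∈ TT → a ≠ b → op a b ∈ O ∧ op (op e16 a) b ∉ O := by
      intro a b ha hb hab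
      obtain ⟨⟨i, hi, ea⟩, ha16⟩ := (first_spec a.2).1.mp ha
      obtain ⟨⟨j, hj, eb⟩, hb16⟩ := (first_spec b.2).1.mp hb
      obtain ⟨-, hlen, -⟩ := SylTwo.vec_ok
      have hva : (a : ℕ) ∈ SylTwo.Dat.vecs := by
        rw [ea, List.getD_eq_getElem _ _ (by omega)]; exact List.getElem_mem _
      have hvb : (b : ℕ) ∈ SylTwo.Dat.vecs := by
        rw [eb, List.getD_eq_getElem _ _ (by omega)]; exact List.getElem_mem _
      have hok := List.all_eq_true.mp (List.all_eq_true.mp pairs_ok _ hva) _ hvb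
      have e1 : Nat.beq (a : ℕ) 16 = false := Bool.eq_false_iff.mpr fun hh => ha16 (Nat.eq_of_beq_eq_true hh)
      have e2 : Nat.beq (b : ℕ) 16 = false := Bool.eq_false_iff.mpr fun hh => hb16 (Nat.eq_of_beq_eq_true hh)
      have e3 : Nat.beq (a : ℕ) (b : ℕ) = false :=
        Bool.eq_false_iff.mpr fun hh => hab (Fin.ext (Nat.eq_of_beq_eq_true hh))
      simp only [e1, e2, e3, Bool.false_or, Bool.and_eq_true, Bool.not_eq_true'] at hok
      refine ⟨(hmem _).mpr hok.1, fun hmem' => ?_⟩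
      have h2 : bitOf (maskBits 19) (Nat.xor (Nat.xor 16 (a : ℕ)) (b : ℕ)) = true := (hmem _).mp hmem'
      rw [hok.2] at h2
      exact Bool.noConfusion h2
    obtain ⟨t, ht, u, hu, htu⟩ := (Set.one_lt_ncard (Set.toFinite TT)).mp (by rw [hTTcard]; norm_num)
    have hne : ∀ a b : V, a ∈ TT → b ∈ TT → op a e16 ≠ b := fun a b ha hb hab =>
      hs.disj a ha (by rw [op_comm, hab]; exact hb)
    refine Orbital.no_pairs hs ht hu (hp t u ht hu htu).1 (hp t u ht hu htu).2
      (fun a ha b hb hab => (hp a b ha hb hab).1) (hne t u ht hu) ?_ htu (hp u t hu ht (Ne.symm htu)).2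
      (hne u t hu ht)
    intro y hy hy'
    have hok := List.all_eq_true.mp adj_ok (y : ℕ) (List.mem_range.mpr y.2)
    rw [show Nat.add 0 (y : ℕ) = y from Nat.zero_add _] at hok
    have b1 := (hmem _).mp hy
    have b2 : bitOf (maskBits 19) (Nat.xor 16 (y : ℕ)) = true := (hmem _).mp hy'
    simp only [adjOK, b1, b2, Bool.and_self, Bool.not_true, Bool.false_or, Bool.or_eq_true] at hok
    rcases hok with (h16 | h0) | h4
    · exact Or.inl (Fin.ext (Nat.eq_of_beq_eq_true h16))
    · exact Or.inr (Or.inl (Nat.eq_of_beq_eq_true h0))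
    · exact Or.inr (Or.inr (flip_last (Nat.eq_of_beq_eq_true h4)))
  · exfalso
    have h3 := Orbital.three_dvd (setup (by decide) (by decide))
    rw [hTTcard, ← hO, hsize, sizes_ok.2.2.2] at h3
    norm_num at h3

end Cfsg.Agent.Spor.Fi23Thompson.Count
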