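import Cfsg.Agent.Lib.Spor.Fi23SylTwoMain
import Cfsg.Agent.Lib.Spor.Fi23Thompson.Data

/-!
Checkers for the action of the normalizer of a base on its vectors.
-/

set_option autoImplicit false

namespace Cfsg.Agent.Spor.Fi23Thompson

open Cfsg.Agent.Spor.CC
open Cfsg.Agent.Spor.Fi23Cert

/-- the generating words -/
def gW (j : ℕ) : List ℕ := (SylTwo.Dat.genW ++ [Dat.newW]).getD j []

/-- their action on the base -/
def gP (j : ℕ) : List ℕ := (SylTwo.Dat.genP ++ [Dat.newP]).getD j []

/-- conjugation checks for the new element -/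
def newChk : List (List ℕ) :=
  (List.range 23).map fun i =>
    Dat.newW ++ SylTwo.tWd i ++ Dat.newW.reverse ++ SylTwo.tWd (Dat.newP.getD i 0)

/-- image of a vector -/
def imgV (j m : ℕ) : ℕ :=
  (List.range 11).foldl (fun r k =>
    bif SylTwo.bitOf m k then Nat.xor r ((Dat.ims.getD j []).getD k 0) else r) 0

/-- member of a set -/
def el (k i : ℕ) : ℕ := fld (Dat.mems.getD k 0) 12 i

/-- the set of a vector -/
def lab (m : ℕ) : ℕ := fld Dat.labs 4 m

/-- the place of a vector -/
def place (m : ℕ) : ℕ := fld Dat.places 12 m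

/-- one step in the chain of a set -/
def stepOK (k i : ℕ) : Bool :=
  Nat.blt (el k i) 2048 && Nat.beq (lab (el k i)) k && Nat.beq (place (el k i)) i &&
    bif Nat.beq i 0 then Nat.beq (el k 0) (Dat.reps.getD k 0) else
      let p := fld (Dat.pars.getD k 0) 12 i
      let j := fld (Dat.gens.getD k 0) 4 i
      Nat.blt p i && Nat.blt j 5 && Nat.beq (el k i) (imgV j (el k p))

/-- the vector has its place, and the bits agree -/
def coverOK (m : ℕ) : Bool :=
  (bif Nat.beq m 0 || Nat.beq m 16 then Nat.beq (lab m) 7 else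
    Nat.blt (lab m) 5 && Nat.blt (place m) (Dat.sizes.getD (lab m) 0) &&
      Nat.beq (el (lab m) (place m)) m) &&
    (List.range 5).all fun k => SylTwo.bitOf (Dat.bits.getD k 0) m == Nat.beq (lab m) k

/-- the first set is the other twenty-two members, the last its translate -/
def firstOK (m : ℕ) : Bool :=
  (Nat.beq (lab m) 0 == (SylTwo.Dat.vecs.contains m && !(Nat.beq m 16))) &&
    (Nat.beq (lab m) 4 == Nat.beq (lab (Nat.xor m 16)) 0)

/-- the point scan: a point fixed by seven of the base is in the base -/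
noncomputable def scanOK (p : ℕ) : Bool :=
  !((List.range 7).all fun i => Nat.beq (ev RepA.rows 10 (SylTwo.tWd i) p) p) || Dat.pts.contains p

/-- the union given by a mask -/
def maskBits (M : ℕ) : ℕ :=
  (List.range 5).foldl (fun r k => bif SylTwo.bitOf M k then Nat.lor r (Dat.bits.getD k 0) else r)
    (Nat.shiftLeft 1 16)

/-- pairs in the union with given sum -/
def cnt (B x : ℕ) : ℕ :=
  ((List.range 2048).filter fun y => SylTwo.bitOf B y && SylTwo.bitOf B (Nat.xor x y)).length

/-- a mask fails the invariant or is one of the five -/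
def maskOK (M : ℕ) : Bool :=
  [0, 1, 16, 19, 31].contains M ||
    (Nat.blt (Dat.bad.getD M 9) 5 && SylTwo.bitOf M (Dat.bad.getD M 9) &&
      !(Nat.beq (cnt (maskBits M) 16) (cnt (maskBits M) (Dat.reps.getD (Dat.bad.getD M 9) 0))))

/-- the number of members of a union -/
def sizeB (B : ℕ) : ℕ := ((List.range 2048).filter (SylTwo.bitOf B)).length

/-- the pairs in the union of size 276 -/
def pairOK (a : ℕ) : Bool :=
  let B := maskBits 19
  (SylTwo.Dat.vecs.all fun b => Nat.beq a 16 || Nat.beq b 16 || Nat.beq a b ||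
    (SylTwo.bitOf B (Nat.xor a b) && !(SylTwo.bitOf B (Nat.xor (Nat.xor 16 a) b))))

/-- the neighbours of the fixed member in the union of size 276 -/
def adjOK (y : ℕ) : Bool :=
  let B := maskBits 19
  !(SylTwo.bitOf B y && SylTwo.bitOf B (Nat.xor 16 y)) || Nat.beq y 16 || Nat.beq (lab y) 0 || Nat.beq (lab y) 4

end Cfsg.Agent.Spor.Fi23Thompson
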