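import Cfsg.Agent.Lib.Spor.Fi22SixMain
import Cfsg.Agent.Lib.Spor.Fi23Cover

/-!
A perfect central double cover of Fi22 is the centralizer of a transposition in Fi23.
-/

set_option autoImplicit false
set_option maxRecDepth 100000

namespace Cfsg.Agent.Spor.Fi23Thompson.Ident

open Cfsg.Agent.Spor.CC
open Cfsg.Agent.Spor.Fi22SixCert

theorem spider_up : spider.map upL ∈ Fi23Cert.pres.relW := by decide +kernel

theorem spE_zero : toFi23 spE = 1 := by
  rw [toFi23, spE, SpiderCert.homOf_prod,
    show List.map (fun x => Fi23Cert.pres.gen (upL x)) spider = (spider.map upL).map Fi23Cert.pres.gen from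
      by rw [List.map_map]; rfl]
  exact Pres.relW_one Fi23Cert.pres_ok spider_up

theorem range_eq : toFi23.range = Fi23Cert.Below.Ksub := by
  rw [Fi23Cert.Below.sub_eq_singles]
  refine le_antisymm ?_ ((Subgroup.closure_le _).mpr ?_)
  · rw [MonoidHom.range_eq_map, ← Pres.closure_gen pres_ok, MonoidHom.map_closure, Subgroup.closure_le]
    rintro _ ⟨_, ⟨x, hx, rfl⟩, rfl⟩
    have hx9 : x < 9 := hx
    rw [toFi23, SpiderCert.homOf_gen]
    refine Subgroup.subset_closure ⟨upL x, ?_, rfl⟩
    interval_cases x <;> decide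
  · rintro _ ⟨y, hy, rfl⟩
    have : ∃ x < 9, upL x = y := by
      replace hy : y ∈ Fi23Cert.Below.lets := hy
      revert y
      decide
    obtain ⟨x, -, rfl⟩ := this
    exact ⟨pres.gen x, SpiderCert.homOf_gen ..⟩

theorem card_six : Nat.card pres.Grp = 6 * 64561751654400 := by
  haveI := card_le.1
  have h := Subgroup.card_mul_index toFi.ker
  rw [Subgroup.index_ker, MonoidHom.range_eq_top.mpr toFi_surj,
    Nat.card_congr (Subgroup.topEquiv (G := Fi22Cert.pres.Grp)).toEquiv, Fi22Cert.order.2.1, kernel_card] at h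
  exact h.symm

theorem ker_three : Nat.card toFi23.ker = 3 := by
  haveI := card_le.1
  have h := Subgroup.card_mul_index toFi23.ker
  rw [Subgroup.index_ker, range_eq, Fi23Cert.Below.card_Ksub.2, card_six] at h
  exact Nat.eq_of_mul_eq_mul_right (by norm_num : (0 : ℕ) < 129123503308800)
    (h.trans (by norm_num : 6 * 64561751654400 = 3 * 129123503308800))

theorem spE_three : orderOf spE = 3 := by
  haveI : Fact (Nat.Prime 3) := ⟨Nat.prime_three⟩
  have h1 : orderOf spE ∣ 3 := ker_three ▸ Subgroup.orderOf_dvd_natCard _ (MonoidHom.mem_ker.mpr spE_zero)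
  rcases (Nat.dvd_prime Nat.prime_three).mp h1 with h | h
  · exfalso
    have := spE_image
    rw [orderOf_eq_one_iff] at h
    rw [h, map_one, orderOf_one] at this
    omega
  · exact h

universe u

theorem exists_equiv {C : Type u} [Group C] [Finite C] (f : C →* Fi22Cert.pres.Grp) (hf : Function.Surjective f)
    (hk : f.ker ≤ Subgroup.center C) (hperf : commutator C = ⊤) (h2 : Nat.card f.ker = 2) :
    Nonempty (Fi23Cert.Below.Ksub ≃* C) := by
  let σ : Shrink.{0} C ≃* C := Shrink.mulEquiv
  haveI : Finite (Shrink.{0} C) := Finite.of_equiv C (equivShrink.{0} C)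
  let π : Shrink.{0} C →* Fi22Cert.pres.Grp := f.comp σ.toMonoidHom
  have hstem : Cfsg.IsStemExtension π := by
    refine ⟨hf.comp σ.surjective, fun γ hγ => ?_, fun γ _ => ?_⟩
    · refine Subgroup.mem_center_iff.mpr fun g => σ.injective ?_
      rw [map_mul, map_mul]
      exact Subgroup.mem_center_iff.mp (hk hγ) (σ g)
    · have h := Subgroup.map_top_of_surjective σ.symm.toMonoidHom σ.symm.surjective
      have h3 : commutator (Shrink.{0} C) = ⊤ := by
        rw [commutator_def, ← h, ← Subgroup.map_commutator, ← commutator_def, hperf]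
      rw [h3]; exact Subgroup.mem_top γ
  obtain ⟨φ, hφ, hcomp⟩ := exists_onto hstem
  haveI := card_le.1
  let κ : pres.Grp →* C := σ.toMonoidHom.comp φ
  have hκ : Function.Surjective κ := σ.surjective.comp hφ
  have hfκ : ∀ s, f (κ s) = toFi s := fun s => DFunLike.congr_fun hcomp s
  have hsp : spE ∈ κ.ker := by
    have h1 : κ spE ∈ f.ker := by rw [MonoidHom.mem_ker, hfκ]; exact spE_ker
    have h4 : orderOf (κ spE) ∣ 2 := h2 ▸ Subgroup.orderOf_dvd_natCard _ h1
    have h5 : orderOf (κ spE) ∣ 3 := spE_three ▸ orderOf_map_dvd κ spE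
    rw [MonoidHom.mem_ker, ← orderOf_eq_one_iff]
    exact Nat.eq_one_of_dvd_coprimes (by norm_num : Nat.Coprime 2 3) h4 h5
  have hcardC : Nat.card C = 2 * 64561751654400 := by
    have h := Subgroup.card_mul_index f.ker
    rw [Subgroup.index_ker, MonoidHom.range_eq_top.mpr hf,
      Nat.card_congr (Subgroup.topEquiv (G := Fi22Cert.pres.Grp)).toEquiv, Fi22Cert.order.2.1, h2] at h
    exact h.symm
  have hkerκ : Nat.card κ.ker = 3 := by
    have h := Subgroup.card_mul_index κ.ker
    rw [Subgroup.index_ker, MonoidHom.range_eq_top.mpr hκ,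
      Nat.card_congr (Subgroup.topEquiv (G := C)).toEquiv, hcardC, card_six] at h
    exact Nat.eq_of_mul_eq_mul_right (by norm_num : (0 : ℕ) < 2 * 64561751654400)
      (h.trans (by norm_num : 6 * 64561751654400 = 3 * (2 * 64561751654400)))
  have hz : ∀ L : Subgroup pres.Grp, spE ∈ L → Nat.card L = 3 → Subgroup.zpowers spE = L := fun L hm hc =>
    Subgroup.eq_of_le_of_card_ge (Subgroup.zpowers_le.mpr hm) (by rw [hc, Nat.card_zpowers, spE_three])
  have hker : toFi23.ker = κ.ker :=
    (hz _ (MonoidHom.mem_ker.mpr spE_zero) ker_three).symm.trans (hz _ hsp hkerκ)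
  exact ⟨(MulEquiv.subgroupCongr range_eq).symm.trans ((QuotientGroup.quotientKerEquivRange toFi23).symm.trans
    ((QuotientGroup.quotientMulEquivOfEq hker).trans (QuotientGroup.quotientKerEquivOfSurjective κ hκ)))⟩

end Cfsg.Agent.Spor.Fi23Thompson.Ident
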