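import Cfsg.Agent.Lib.Spor.Fi23Thompson.Base

/-!
Every involution of the centralizer of a transposition of Fi23 is conjugate into the base subgroup, given that
every involution of Fi22 is a product of commuting transpositions.
-/

set_option autoImplicit false
set_option maxRecDepth 100000

namespace Cfsg.Agent.Spor.Fi23Thompson

open Cfsg.Agent.Spor.CC
open Cfsg.Agent.Spor.Fi23Cert
open Cfsg.Agent.Spor.Fi23Cert.SylTwo (vv bT baseV sylT)

theorem gen_zero_mem : pres.gen 0 ∈ Below.Ksub := by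
  rw [Below.sub_eq_singles]
  exact Subgroup.subset_closure ⟨0, by decide, rfl⟩

theorem toFi22_gen_zero : Below.toFi22 ⟨pres.gen 0, gen_zero_mem⟩ = Fi22Cert.pres.gen 0 := by
  show (MonoidHom.ofInjective Fi22Cert.order.2.2).symm (Below.theta ⟨_, gen_zero_mem⟩) = _
  rw [MulEquiv.symm_apply_eq]
  exact Subtype.ext (Below.match_unique (Below.exists_match _ gen_zero_mem).choose_spec.2
    (Below.match_gen 0 (by norm_num)))

theorem tA_lift : Below.toFi22 ⟨Below.tA, Below.tA_mem⟩ = 1 := Below.tA_ker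

theorem ker_cases {s : Below.Ksub} (hs : Below.toFi22 s = 1) : (s : pres.Grp) = 1 ∨ (s : pres.Grp) = Below.tA := by
  by_contra hcon
  push Not at hcon
  obtain ⟨u, v, huv, huniv⟩ := Nat.card_eq_two_iff.mp Below.ker_card
  have h1 : ∀ r : Below.toFi22.ker, r = u ∨ r = v := fun r => by
    have : r ∈ ({u, v} : Set Below.toFi22.ker) := huniv ▸ Set.mem_univ r
    simpa using this
  have a0 : (⟨s, hs⟩ : Below.toFi22.ker) ≠ 1 := fun e => hcon.1 (congrArg (fun q : Below.toFi22.ker => ((q : Below.Ksub) : pres.Grp)) e)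
  have b0 : (⟨⟨Below.tA, Below.tA_mem⟩, Below.tA_ker⟩ : Below.toFi22.ker) ≠ 1 := fun e =>
    Below.tA_ne_one (congrArg (fun q : Below.toFi22.ker => ((q : Below.Ksub) : pres.Grp)) e)
  have hne : (⟨s, hs⟩ : Below.toFi22.ker) ≠ ⟨⟨Below.tA, Below.tA_mem⟩, Below.tA_ker⟩ := fun e =>
    hcon.2 (congrArg (fun q : Below.toFi22.ker => ((q : Below.Ksub) : pres.Grp)) e)
  rcases h1 ⟨s, hs⟩ with e1 | e1 <;> rcases h1 ⟨⟨Below.tA, Below.tA_mem⟩, Below.tA_ker⟩ with e2 | e2 <;>
    rcases h1 1 with e3 | e3 <;> simp_all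

theorem closure_two {S : Set pres.Grp} (hc : ∀ a ∈ S, ∀ b ∈ S, a * b = b * a) (h2 : ∀ a ∈ S, a * a = 1) :
    IsPGroup 2 (Subgroup.closure S) := by
  have hall : ∀ x ∈ Subgroup.closure S, x * x = 1 ∧ ∀ a ∈ S, x * a = a * x := by
    intro x hx
    induction hx using Subgroup.closure_induction with
    | mem y hy => exact ⟨h2 y hy, fun a ha => hc y hy a ha⟩
    | one => simp
    | mul p q hp hq ihp ihq =>
      have hcomm : ∀ a ∈ S, p * q * a = a * (p * q) := fun a ha => by
        rw [mul_assoc, ihq.2 a ha, ← mul_assoc, ihp.2 a ha, mul_assoc]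
      have hpq : p * q = q * p := by
        have hp' : p ∈ Subgroup.centralizer ((Subgroup.closure S : Subgroup pres.Grp) : Set pres.Grp) := by
          rw [Subgroup.centralizer_closure, Subgroup.mem_centralizer_iff]
          exact fun a ha => (ihp.2 a ha).symm
        exact (Subgroup.mem_centralizer_iff.mp hp' q hq).symm
      refine ⟨?_, hcomm⟩
      calc p * q * (p * q) = p * (q * p) * q := by group
        _ = (p * p) * (q * q) := by rw [← hpq]; group
        _ = 1 := by rw [ihp.1, ihq.1, one_mul]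
    | inv p _ ihp =>
      rw [inv_eq_of_mul_eq_one_left ihp.1]
      exact ihp
  rintro ⟨x, hx⟩
  exact ⟨1, Subtype.ext (by rw [pow_one, Subgroup.coe_pow, pow_two]; exact (hall x hx).1)⟩

/-- every involution of Fi22 is a product of commuting transpositions -/
def GoodInvol : Prop :=
  ∀ x : Fi22Cert.pres.Grp, x * x = 1 → ∃ l : List Fi22Cert.pres.Grp,
    (∀ a ∈ l, a ∈ conjugatesOf (Fi22Cert.pres.gen 0)) ∧ (∀ a ∈ l, ∀ b ∈ l, a * b = b * a) ∧ l.prod = x

theorem invol_base (hgood : GoodInvol) {x : pres.Grp} (hx : x ∈ K4) (hx2 : x * x = 1) :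
    ∃ k ∈ K4, k * x * k⁻¹ ∈ baseV := by
  set s := toK4.symm ⟨x, hx⟩ with hs
  have hxs : g0 * (s : pres.Grp) * g0⁻¹ = x := by rw [hs, ← toK4_val, MulEquiv.apply_symm_apply]
  have hs2 : s * s = 1 := by
    rw [hs, ← map_mul, show (⟨x, hx⟩ : K4) * ⟨x, hx⟩ = 1 from Subtype.ext hx2, map_one]
  obtain ⟨l, hl, hlc, hlp⟩ := hgood (Below.toFi22 s) (by rw [← map_mul, hs2, map_one])
  have hlift : ∀ a ∈ l, ∃ L : Below.Ksub, (L : pres.Grp) ∈ conjugatesOf Below.tA ∧ Below.toFi22 L = a := by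
    intro a ha
    obtain ⟨c, hc⟩ := isConj_iff.mp (hl a ha)
    obtain ⟨c', rfl⟩ := Below.toFi22_surjective c
    refine ⟨c' * ⟨pres.gen 0, gen_zero_mem⟩ * c'⁻¹, ?_, by rw [map_mul, map_mul, map_inv, toFi22_gen_zero, hc]⟩
    exact conj_class (Outer.gen_mem_class (x := 0) (by norm_num)) _
  choose! L hLc hLv using hlift
  have hLsq : ∀ a ∈ l, L a * L a = 1 := fun a ha => Subtype.ext (class_sq (hLc a ha))
  have hLcomm : ∀ a ∈ l, ∀ b ∈ l, L a * L b = L b * L a := by
    intro a ha b hb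
    have hsq : ((L a : pres.Grp) * L b) ^ 2 = 1 := by
      rcases Below.class_transp.1.2 _ (hLc a ha) _ (hLc b hb) with h | h
      · exact h
      · have h3 : (L a * L b) ^ 3 = 1 := Subtype.ext h
        have ha2 : a * a = 1 := by rw [← hLv a ha, ← map_mul, hLsq a ha, map_one]
        have hb2 : b * b = 1 := by rw [← hLv b hb, ← map_mul, hLsq b hb, map_one]
        have hab : Below.toFi22 (L a * L b) = 1 := by
          have h4 := congrArg Below.toFi22 h3
          rw [map_pow, map_mul, map_one, hLv a ha, hLv b hb] at h4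
          have h5 : (a * b) ^ 2 = 1 := by
            calc (a * b) ^ 2 = a * (b * a) * b := by rw [pow_two]; group
              _ = (a * a) * (b * b) := by rw [← hlc a ha b hb]; group
              _ = 1 := by rw [ha2, hb2, one_mul]
          rw [map_mul, hLv a ha, hLv b hb]
          rw [pow_succ, h5, one_mul] at h4
          exact h4
        rcases ker_cases hab with h' | h' <;> rw [Subgroup.coe_mul] at h' <;> rw [h', pow_two]
        · rw [one_mul]
        · exact Below.tA_sq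
    apply Subtype.ext
    rw [pow_two] at hsq
    simp only [Subgroup.coe_mul]
    rw [eq_inv_of_mul_eq_one_left hsq, mul_inv_rev,
      inv_eq_of_mul_eq_one_left (class_sq (hLc a ha)), inv_eq_of_mul_eq_one_left (class_sq (hLc b hb))]
  set S : Set pres.Grp := insert d0 ((fun a => g0 * (L a : pres.Grp) * g0⁻¹) '' {a | a ∈ l})
  have hSK : ∀ y ∈ S, y ∈ K4 := by
    rintro y (rfl | ⟨a, ha, rfl⟩)
    · exact bT_mem_K4 (by norm_num)
    · show g0 * (L a : pres.Grp) * g0⁻¹ ∈ K4
      rw [← toK4_val]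
      exact (toK4 (L a)).2
  have hSc : ∀ y ∈ S, y ∈ conjugatesOf Below.tA := by
    rintro y (rfl | ⟨a, ha, rfl⟩)
    · exact bT_class (by norm_num)
    · exact conj_class (hLc a ha) g0
  have hScomm : ∀ y ∈ S, ∀ z ∈ S, y * z = z * y := by
    rintro y (rfl | ⟨a, ha, rfl⟩) z (rfl | ⟨b, hb, rfl⟩)
    · rfl
    · exact (mem_K4.mp (hSK _ (Or.inr ⟨b, hb, rfl⟩))).symm
    · exact mem_K4.mp (hSK _ (Or.inr ⟨a, ha, rfl⟩))
    · show g0 * (L a : pres.Grp) * g0⁻¹ * (g0 * (L b : pres.Grp) * g0⁻¹) =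
        g0 * (L b : pres.Grp) * g0⁻¹ * (g0 * (L a : pres.Grp) * g0⁻¹)
      have h := congrArg (fun q : Below.Ksub => g0 * (q : pres.Grp) * g0⁻¹) (hLcomm a ha b hb)
      simp only [Subgroup.coe_mul] at h
      calc _ = g0 * ((L a : pres.Grp) * L b) * g0⁻¹ := by group
        _ = g0 * ((L b : pres.Grp) * L a) * g0⁻¹ := h
        _ = _ := by group
  obtain ⟨k, hk, hconj⟩ := two_conj ((Subgroup.closure_le _).mpr hSK)
    (closure_two hScomm fun y hy => class_sq (hSc y hy))
  have hmem : ∀ y ∈ S, k * y * k⁻¹ ∈ baseV := by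
    intro y hy
    obtain ⟨i, hi, e⟩ := transp_in (conj_class (hSc y hy) k) (hconj y (Subgroup.subset_closure hy))
    rw [e, SylTwo.bT_vec hi]
    exact ⟨_, SylTwo.vec_lt hi, rfl⟩
  refine ⟨k, hk, ?_⟩
  set p : Below.Ksub := (l.map L).prod
  have hp : k * (g0 * (p : pres.Grp) * g0⁻¹) * k⁻¹ ∈ baseV := by
    have e : k * (g0 * (p : pres.Grp) * g0⁻¹) * k⁻¹ =
        (((l.map L).map fun q : Below.Ksub => k * (g0 * (q : pres.Grp) * g0⁻¹) * k⁻¹)).prod := by
      have := map_list_prod ((MulAut.conj k).toMonoidHom.comp ((MulAut.conj g0).toMonoidHom.comp Below.Ksub.subtype))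
        (l.map L)
      exact this
    rw [e]
    refine list_prod_mem fun z hz => ?_
    simp only [List.mem_map, exists_exists_and_eq_and] at hz
    obtain ⟨a, ha, rfl⟩ := hz
    exact hmem _ (Or.inr ⟨a, ha, rfl⟩)
  have hker : Below.toFi22 (s * p⁻¹) = 1 := by
    rw [map_mul, map_inv, map_list_prod, List.map_map]
    rw [List.map_congr_left (f := ⇑Below.toFi22 ∘ L) (g := id) hLv, List.map_id, hlp, mul_inv_cancel]
  rcases ker_cases hker with h | h <;> rw [Subgroup.coe_mul, InvMemClass.coe_inv, mul_inv_eq_iff_eq_mul] at h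
  · rw [← hxs, h, one_mul]
    exact hp
  · rw [← hxs, h, show k * (g0 * (Below.tA * (p : pres.Grp)) * g0⁻¹) * k⁻¹ =
      (k * (g0 * Below.tA * g0⁻¹) * k⁻¹) * (k * (g0 * (p : pres.Grp) * g0⁻¹) * k⁻¹) by group, g0_spec]
    exact mul_mem (hmem _ (Or.inl rfl)) hp

end Cfsg.Agent.Spor.Fi23Thompson
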