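import Cfsg.Agent.Lib.Spor.Fi23Thompson.Invol
import Cfsg.Agent.Lib.Spor.Fi23Thompson.Count

/-!
The Thompson subgroup of a Sylow two-subgroup of an involution centralizer isomorphic to a transposition
centralizer of Fi23, and the conjugates of the involution in it.
-/

set_option autoImplicit false
set_option maxRecDepth 100000

namespace Cfsg.Agent.Spor.Fi23Thompson.Main

open Cfsg.Agent.Spor.Fi23Cert
open Cfsg.Agent.Spor.Fi23Cert.SylTwo (vv baseV sylT)

universe u

section Elementary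

variable {H K : Type*} [Group H] [Group K]

theorem elem_map {f : H →* K} {B : Subgroup H} (hB : Cfsg.IsElementaryAbelian 2 B) :
    Cfsg.IsElementaryAbelian 2 (B.map f) := by
  obtain ⟨⟨⟨hc⟩⟩, hs⟩ := hB
  refine ⟨⟨⟨?_⟩⟩, ?_⟩
  · rintro ⟨_, a, ha, rfl⟩ ⟨_, b, hb, rfl⟩
    apply Subtype.ext
    simp only [Subgroup.coe_mul, ← map_mul]
    exact congrArg f (congrArg Subtype.val (hc ⟨a, ha⟩ ⟨b, hb⟩))
  · rintro _ ⟨a, ha, rfl⟩
    rw [← map_pow, hs a ha, map_one]

theorem elem_comap {f : H →* K} (hf : Function.Injective f) {B : Subgroup K}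
    (hB : Cfsg.IsElementaryAbelian 2 B) : Cfsg.IsElementaryAbelian 2 (B.comap f) := by
  obtain ⟨⟨⟨hc⟩⟩, hs⟩ := hB
  refine ⟨⟨⟨fun a b => Subtype.ext (hf ?_)⟩⟩, fun a ha => hf ?_⟩
  · simp only [Subgroup.coe_mul, map_mul]
    exact congrArg Subtype.val (hc ⟨f a, a.2⟩ ⟨f b, b.2⟩)
  · rw [map_pow, map_one]
    exact hs _ ha

theorem thompson_eq [Finite H] (P W : Subgroup H) (hWP : W ≤ P) (hW : Cfsg.IsElementaryAbelian 2 W)
    (hmax : ∀ B : Subgroup H, B ≤ P → Cfsg.IsElementaryAbelian 2 B → B ≤ W ∨ Nat.card B < Nat.card W) :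
    Cfsg.thompsonSubgroupOf 2 P = W := by
  have hWel : Cfsg.IsElementaryAbelian 2 (W.subgroupOf P) := elem_comap P.subtype_injective hW
  have hcard : Nat.card (W.subgroupOf P) = Nat.card W := Nat.card_congr (Subgroup.subgroupOfEquivOfLe hWP).toEquiv
  have hlt : ∀ B : Subgroup P, Cfsg.IsElementaryAbelian 2 B → B ≤ W.subgroupOf P ∨ Nat.card B < Nat.card W := by
    intro B hB
    rcases hmax (B.map P.subtype) (Subgroup.map_subtype_le _) (elem_map hB) with h | h
    · exact Or.inl fun b hb => h ⟨b, hb, rfl⟩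
    · right; rwa [Subgroup.card_map_of_injective P.subtype_injective] at h
  have hJ : Cfsg.thompsonSubgroup 2 P = W.subgroupOf P := by
    refine le_antisymm (sSup_le ?_) (le_sSup ⟨hWel, fun B hB => ?_⟩)
    · rintro B ⟨hB, hBmax⟩
      rcases hlt B hB with h | h
      · exact h
      · have := hBmax _ hWel
        omega
    · rcases hlt B hB with h | h
      · exact Subgroup.card_le_of_le h
      · omega
  rw [Cfsg.thompsonSubgroupOf, hJ, Subgroup.subgroupOf_map_subtype, inf_of_le_left hWP]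

theorem normalizes [Finite H] {A : Subgroup H} {n : H} (h : A.map (MulAut.conj n).toMonoidHom = A) :
    n ∈ Subgroup.normalizer (A : Set H) := by
  rw [SetLike.mem_coe.symm, SetLike.mem_coe, Subgroup.mem_normalizer_iff]
  intro x
  constructor
  · exact fun hh => h ▸ ⟨x, hh, rfl⟩
  · intro hh
    rw [← h] at hh
    obtain ⟨y, hy, hye⟩ := hh
    exact (MulAut.conj n).injective hye ▸ hy

end Elementary

variable {G : Type u} [Group G] [Finite G]

theorem main (d : G) (hd : orderOf d = 2)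
    (ψ0 : Below.Ksub ≃* (Subgroup.centralizer ({d} : Set G))) (hgood : GoodInvol)
    (hnwc : ∃ g : G, g * d * g⁻¹ ∈ Subgroup.centralizer ({d} : Set G) ∧ g * d * g⁻¹ ≠ d)
    (S : Sylow 2 ↥(Subgroup.centralizer ({d} : Set G))) (A : Subgroup G)
    (hA : A = (Cfsg.thompsonSubgroupOf 2 (S : Subgroup ↥(Subgroup.centralizer ({d} : Set G)))).map
      (Subgroup.centralizer ({d} : Set G)).subtype) :
    Cfsg.IsElementaryAbelian 2 A ∧ Nat.card A = 2 ^ 11 ∧ Set.ncard {x : G | x ∈ A ∧ IsConj d x} = 23 ∧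
      ∀ x ∈ A, ∀ y ∈ A, IsConj d x → IsConj d y →
        ∃ n ∈ Subgroup.normalizer (A : Set G), n * x * n⁻¹ = y := by
  classical
  haveI := finite_grp
  haveI : Fact (Nat.Prime 2) := ⟨Nat.prime_two⟩
  let C : Subgroup G := Subgroup.centralizer ({d} : Set G)
  have hd1 : d ≠ 1 := fun h => by rw [h, orderOf_one] at hd; omega
  have hd2 : d * d = 1 := by rw [← pow_two, ← hd, pow_orderOf_eq_one]
  set Φ0 : K4 ≃* C := toK4.symm.trans ψ0 with hΦ0
  let dC : C := ⟨d, Subgroup.mem_centralizer_singleton_iff.mpr rfl⟩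
  have hΦd : ((Φ0 ⟨d0, mem_K4.mpr rfl⟩ : C) : G) = d := by
    have hcen : ψ0.symm dC ∈ Subgroup.center Below.Ksub := Subgroup.mem_center_iff.mpr fun g => by
      apply ψ0.injective
      rw [map_mul, map_mul, MulEquiv.apply_symm_apply]
      exact Subtype.ext (Subgroup.mem_centralizer_singleton_iff.mp (ψ0 g).2)
    rw [Below.center_eq, MonoidHom.mem_ker] at hcen
    rcases ker_cases hcen with h | h
    · exfalso
      have h1 : ψ0.symm dC = 1 := Subtype.ext h
      rw [EmbeddingLike.map_eq_one_iff] at h1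
      exact hd1 (congrArg Subtype.val h1)
    · have h1 : toK4.symm ⟨d0, mem_K4.mpr rfl⟩ = ψ0.symm dC := by
        rw [MulEquiv.symm_apply_eq]
        apply Subtype.ext
        rw [toK4_val, h, g0_spec]
      simp only [hΦ0, MulEquiv.trans_apply, h1, MulEquiv.apply_symm_apply]
      rfl
  -- align the Sylow subgroup
  let T0 : Sylow 2 K4 := (sylT_two.of_equiv (Subgroup.subgroupOfEquivOfLe sylT_le_K4).symm).toSylow sylT_index
  obtain ⟨c, hc⟩ := MulAction.exists_smul_eq K4 T0 (S.comapOfInjective Φ0.toMonoidHom Φ0.injective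
    (by rw [MonoidHom.range_eq_top.mpr Φ0.surjective]; exact le_top))
  set Φ1 : K4 ≃* C := (MulAut.conj c).trans Φ0 with hΦ1
  have hS : (S : Subgroup C) = (sylT.subgroupOf K4).map Φ1.toMonoidHom := by
    have h1 : (S : Subgroup C).comap Φ0.toMonoidHom = (sylT.subgroupOf K4).map (MulAut.conj c).toMonoidHom := by
      have := congrArg (fun T : Sylow 2 K4 => (T : Subgroup K4)) hc
      exact this.symm
    have h2 := congrArg (Subgroup.map Φ0.toMonoidHom) h1
    rw [Subgroup.map_comap_eq_self_of_surjective Φ0.surjective, Subgroup.map_map] at h2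
    exact h2
  let Φ : K4 →* G := C.subtype.comp Φ1.toMonoidHom
  have hΦinj : Function.Injective Φ := C.subtype_injective.comp Φ1.injective
  have hΦC : ∀ k, Φ k ∈ C := fun k => (Φ1 k).2
  have hΦsurj : ∀ n ∈ C, ∃ k, Φ k = n := fun n hn =>
    ⟨Φ1.symm ⟨n, hn⟩, congrArg Subtype.val (Φ1.apply_symm_apply ⟨n, hn⟩)⟩
  have hΦd0 : Φ ⟨d0, mem_K4.mpr rfl⟩ = d := by
    have h : MulAut.conj c (⟨d0, mem_K4.mpr rfl⟩ : K4) = ⟨d0, mem_K4.mpr rfl⟩ := by
      apply Subtype.ext
      show (c : pres.Grp) * d0 * (c : pres.Grp)⁻¹ = d0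
      rw [mem_K4.mp c.2, mul_inv_cancel_right]
    show ((Φ0 (MulAut.conj c _) : C) : G) = d
    rw [h, hΦd]
  let W : Subgroup K4 := baseV.subgroupOf K4
  have hWcard : Nat.card W = 2 ^ 11 := by
    rw [Nat.card_congr (Subgroup.subgroupOfEquivOfLe baseV_le_K4).toEquiv, SylTwo.card_baseV]
  have hmaxK : ∀ B : Subgroup K4, B ≤ sylT.subgroupOf K4 → Cfsg.IsElementaryAbelian 2 B →
      B ≤ W ∨ Nat.card B < Nat.card W := by
    intro B hB hBel
    have hle : B.map K4.subtype ≤ sylT := by rintro _ ⟨b, hb, rfl⟩; exact hB hb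
    rcases SylTwo.elem_le hle (elem_map hBel) with h | h
    · exact Or.inl fun b hb => h ⟨b, hb, rfl⟩
    · right
      rw [Subgroup.card_map_of_injective K4.subtype_injective] at h
      rw [hWcard]
      exact lt_of_le_of_lt h (by norm_num)
  have hWel : Cfsg.IsElementaryAbelian 2 W := elem_comap K4.subtype_injective SylTwo.baseV_elem
  have hJ : Cfsg.thompsonSubgroupOf 2 (S : Subgroup C) = W.map Φ1.toMonoidHom := by
    refine thompson_eq _ _ ?_ (elem_map hWel) fun B hB hBel => ?_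
    · rw [hS]
      exact Subgroup.map_mono (fun x hx => SylTwo.baseV_le hx)
    · have hle : B.comap Φ1.toMonoidHom ≤ sylT.subgroupOf K4 := by
        intro x hx
        have h1 := hB hx
        rw [hS] at h1
        obtain ⟨y, hy, e⟩ := h1
        exact Φ1.injective e ▸ hy
      have hmap := Subgroup.map_comap_eq_self_of_surjective (f := Φ1.toMonoidHom) Φ1.surjective B
      rcases hmaxK _ hle (elem_comap Φ1.injective hBel) with h | h
      · exact Or.inl (hmap ▸ Subgroup.map_mono h)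
      · right
        rw [← hmap, Subgroup.card_map_of_injective Φ1.injective, Subgroup.card_map_of_injective Φ1.injective]
        exact h
  have hAeq : A = W.map Φ := by rw [hA, hJ, Subgroup.map_map]
  have hAel : Cfsg.IsElementaryAbelian 2 A := hAeq ▸ elem_map hWel
  have hAcard : Nat.card A = 2 ^ 11 := by rw [hAeq, Subgroup.card_map_of_injective hΦinj, hWcard]
  -- coordinates
  let av : Count.V → G := fun v => Φ ⟨vv v, vv_mem_K4 v⟩
  have hav_inj : Function.Injective av := fun a b e =>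
    Fin.ext (SylTwo.vv_inj a.2 b.2 (congrArg Subtype.val (hΦinj e)))
  have hav_op : ∀ a b, av (Count.op a b) = av a * av b := fun a b => by
    simp only [av, ← map_mul]
    exact congrArg Φ (Subtype.ext (SylTwo.vv_mul a b).symm)
  have hmemA : ∀ x, x ∈ A ↔ ∃ v, av v = x := by
    intro x
    rw [hAeq]
    constructor
    · rintro ⟨⟨k, hk⟩, hkW, rfl⟩
      obtain ⟨m, hm, e⟩ := Subgroup.mem_subgroupOf.mp hkW
      exact ⟨⟨m, hm⟩, congrArg Φ (Subtype.ext e)⟩
    · rintro ⟨v, rfl⟩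
      exact ⟨_, Subgroup.mem_subgroupOf.mpr ⟨v, v.2, rfl⟩, rfl⟩
  have hav16 : av Count.e16 = d := by
    rw [← hΦd0]
    exact congrArg Φ (Subtype.ext d0_vec.symm)
  -- conjugates of d in A are conjugate in the normalizer
  have fusion : ∀ x ∈ A, IsConj d x → ∃ n ∈ Subgroup.normalizer (A : Set G), n * d * n⁻¹ = x := by
    intro x hx hxd
    obtain ⟨g, hg⟩ := isConj_iff.mp hxd
    let A' : Subgroup G := A.map (MulAut.conj g⁻¹).toMonoidHom
    have hA'C : A' ≤ C := by
      rintro _ ⟨a, ha, rfl⟩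
      have hcomm : a * x = x * a := congrArg Subtype.val (hAel.1.1.comm (⟨a, ha⟩ : A) ⟨x, hx⟩)
      refine Subgroup.mem_centralizer_singleton_iff.mpr ?_
      show g⁻¹ * a * g⁻¹⁻¹ * d = d * (g⁻¹ * a * g⁻¹⁻¹)
      calc g⁻¹ * a * g⁻¹⁻¹ * d = g⁻¹ * (a * x) * g := by rw [← hg]; group
        _ = g⁻¹ * (x * a) * g := by rw [hcomm]
        _ = d * (g⁻¹ * a * g⁻¹⁻¹) := by rw [← hg]; group
    let B : Subgroup K4 := A'.comap Φ
    have hBmap : B.map Φ = A' := by
      refine Subgroup.map_comap_eq_self fun y hy => ?_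
      obtain ⟨k, hk⟩ := hΦsurj y (hA'C hy)
      exact ⟨k, hk⟩
    have hBel : Cfsg.IsElementaryAbelian 2 B := elem_comap hΦinj (elem_map hAel)
    have hBcard : Nat.card B = 2 ^ 11 := by
      have e1 : Nat.card (B.map Φ) = Nat.card B := Subgroup.card_map_of_injective hΦinj
      rw [← e1, hBmap, ← hAcard]
      exact Subgroup.card_map_of_injective (MulAut.conj g⁻¹).injective
    have hB2 : IsPGroup 2 (B.map K4.subtype) :=
      IsPGroup.of_card (n := 11) (by rw [Subgroup.card_map_of_injective K4.subtype_injective, hBcard])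
    obtain ⟨k, hk, hkB⟩ := two_conj (Subgroup.map_subtype_le B) hB2
    set k' : K4 := ⟨k, hk⟩ with hk'
    have hBW : B.map (MulAut.conj k').toMonoidHom = W := by
      have hle : B.map (MulAut.conj k').toMonoidHom ≤ sylT.subgroupOf K4 := by
        rintro _ ⟨b, hb, rfl⟩
        exact Subgroup.mem_subgroupOf.mpr (hkB _ ⟨b, hb, rfl⟩)
      have hc1 : Nat.card (B.map (MulAut.conj k').toMonoidHom) = Nat.card W := by
        rw [Subgroup.card_map_of_injective (MulAut.conj k').injective, hBcard, hWcard]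
      rcases hmaxK _ hle (elem_map hBel) with h | h
      · exact Subgroup.eq_of_le_of_card_ge h hc1.ge
      · omega
    refine ⟨g * (Φ k')⁻¹, ?_, ?_⟩
    · have h1 : A'.map (MulAut.conj (Φ k')).toMonoidHom = A := by
        rw [← hBmap, Subgroup.map_map, hAeq, ← hBW, Subgroup.map_map]
        congr 1
        refine MonoidHom.ext fun y => ?_
        simp
      have heq : A.map (MulAut.conj (Φ k' * g⁻¹)).toMonoidHom = A := by
        conv_rhs => rw [← h1, Subgroup.map_map]
        congr 1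
        refine MonoidHom.ext fun y => ?_
        simp [mul_assoc]
      rw [show g * (Φ k')⁻¹ = (Φ k' * g⁻¹)⁻¹ by group]
      exact inv_mem (normalizes heq)
    · have hk'd : Φ k' * d = d * Φ k' := Subgroup.mem_centralizer_singleton_iff.mp (hΦC k')
      calc g * (Φ k')⁻¹ * d * (g * (Φ k')⁻¹)⁻¹ = g * ((Φ k')⁻¹ * (d * Φ k')) * g⁻¹ := by group
        _ = g * d * g⁻¹ := by rw [← hk'd]; group
        _ = x := hg
  -- the linear group
  let M : Subgroup (Equiv.Perm Count.V) :=
    { carrier := {σ | ∃ n : G, ∀ v, n * av v * n⁻¹ = av (σ v)}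
      one_mem' := ⟨1, fun v => by simp⟩
      mul_mem' := by
        rintro σ τ ⟨n, hn⟩ ⟨m, hm⟩
        refine ⟨n * m, fun v => ?_⟩
        rw [Equiv.Perm.mul_apply, ← hn, ← hm]
        group
      inv_mem' := by
        rintro σ ⟨n, hn⟩
        refine ⟨n⁻¹, fun v => ?_⟩
        have := hn (σ⁻¹ v)
        rw [show σ (σ⁻¹ v) = v by simp] at this
        rw [← this]
        group }
  have toPerm : ∀ n : G, (∀ v, n * av v * n⁻¹ ∈ A) → ∃ σ ∈ M, ∀ v, n * av v * n⁻¹ = av (σ v) := by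
    intro n hn
    choose f hf using fun v => (hmemA _).mp (hn v)
    have hfi : Function.Injective f := fun a b e => by
      have := congrArg av e
      rw [hf, hf] at this
      exact hav_inj (mul_left_cancel (mul_right_cancel this))
    exact ⟨Equiv.ofBijective f ⟨hfi, Finite.injective_iff_surjective.mp hfi⟩, ⟨n, fun v => (hf v).symm⟩,
      fun v => (hf v).symm⟩
  have hOrb : ∀ v, v ∈ Orbital.Orb M Count.e16 ↔ IsConj d (av v) := by
    intro v
    constructor
    · rintro ⟨σ, ⟨n, hn⟩, rfl⟩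
      exact isConj_iff.mpr ⟨n, by rw [← hn, hav16]⟩
    · intro hv
      obtain ⟨n, hn, hnd⟩ := fusion _ ((hmemA _).mpr ⟨v, rfl⟩) hv
      obtain ⟨σ, hσ, hσv⟩ := toPerm n fun w =>
        (Subgroup.mem_normalizer_iff.mp hn _).mp ((hmemA _).mpr ⟨w, rfl⟩)
      refine ⟨σ, hσ, hav_inj ?_⟩
      rw [← hσv, hav16, hnd]
  have hyp : Count.Hyp M := by
    constructor
    · rintro σ ⟨n, hn⟩ a b
      apply hav_inj
      rw [hav_op, ← hn, ← hn, ← hn, hav_op]
      group
    · rintro σ ⟨n, hn⟩ hσe t ht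
      have hnC : n ∈ C := by
        refine Subgroup.mem_centralizer_singleton_iff.mpr (mul_inv_eq_iff_eq_mul.mp ?_)
        rw [← hav16, hn, hσe]
      obtain ⟨k, rfl⟩ := hΦsurj n hnC
      have h1 : (k : pres.Grp) * vv t * (k : pres.Grp)⁻¹ = vv (σ t) := by
        have := hn t
        simp only [av, ← map_inv, ← map_mul] at this
        exact congrArg Subtype.val (hΦinj this)
      obtain ⟨⟨i, hi, hit⟩, ht16⟩ := (first_spec t.2).1.mp ht
      have h2 : vv (σ t) ∈ conjugatesOf Below.tA := by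
        rw [← h1, hit, ← SylTwo.bT_vec hi]
        exact conj_class (bT_class hi) k
      refine (first_spec (σ t).2).1.mpr ⟨vec_transp (σ t).2 h2, fun h => ht16 ?_⟩
      have : σ t = σ Count.e16 := (show σ t = Count.e16 from Fin.ext h).trans hσe.symm
      exact congrArg Fin.val (σ.injective this)
    · intro a b hab h5
      obtain ⟨k, ⟨hkK, hkN⟩, hkab⟩ := same_set a.2 b.2 hab h5
      obtain ⟨σ, hσ, hσv⟩ := toPerm (Φ ⟨k, hkK⟩) fun v => by
        obtain ⟨m, hm, e⟩ := (Subgroup.mem_normalizer_iff.mp hkN _).mp ⟨(v : ℕ), v.2, rfl⟩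
        refine (hmemA _).mpr ⟨⟨m, hm⟩, ?_⟩
        simp only [av, ← map_inv, ← map_mul]
        exact congrArg Φ (Subtype.ext e)
      refine ⟨σ, hσ, hav_inj ?_, hav_inj ?_⟩
      · rw [← hσv, hav16, Subgroup.mem_centralizer_singleton_iff.mp (hΦC _), mul_inv_cancel_right]
      · rw [← hσv]
        simp only [av, ← map_inv, ← map_mul]
        exact congrArg Φ (Subtype.ext hkab)
    · rintro ⟨σ, ⟨n, hn⟩, hσ0⟩
      have h1 := hn Count.e16
      have h00 : av (0 : Count.V) = 1 := by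
        rw [← map_one Φ]
        exact congrArg Φ (Subtype.ext SylTwo.vv_zero)
      rw [hσ0, hav16, h00, mul_inv_eq_one] at h1
      exact hd1 (by simpa using h1)
    · obtain ⟨g, hgC, hgne⟩ := hnwc
      obtain ⟨k, hk⟩ := hΦsurj _ hgC
      have hk2 : (k : pres.Grp) * k = 1 := congrArg Subtype.val (hΦinj (show Φ (k * k) = Φ 1 by
        rw [map_mul, map_one, hk]
        calc g * d * g⁻¹ * (g * d * g⁻¹) = g * (d * d) * g⁻¹ := by group
          _ = 1 := by rw [hd2]; group))
      obtain ⟨c', hc', m, hm, he⟩ := invol_base hgood k.2 hk2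
      have hcv : Φ ⟨c', hc'⟩ * (g * d * g⁻¹) * (Φ ⟨c', hc'⟩)⁻¹ = av ⟨m, hm⟩ := by
        rw [← hk]
        simp only [av, ← map_inv, ← map_mul]
        exact congrArg Φ (Subtype.ext he.symm)
      refine ⟨⟨m, hm⟩, (hOrb _).mpr (isConj_iff.mpr ⟨Φ ⟨c', hc'⟩ * g, by rw [← hcv]; group⟩), fun h => hgne ?_⟩
      rw [h, hav16] at hcv
      have hcomm : Φ ⟨c', hc'⟩ * d = d * Φ ⟨c', hc'⟩ := Subgroup.mem_centralizer_singleton_iff.mp (hΦC _)
      calc g * d * g⁻¹ = (Φ ⟨c', hc'⟩)⁻¹ * (Φ ⟨c', hc'⟩ * (g * d * g⁻¹) * (Φ ⟨c', hc'⟩)⁻¹) * Φ ⟨c', hc'⟩ := by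
            group
        _ = (Φ ⟨c', hc'⟩)⁻¹ * (d * Φ ⟨c', hc'⟩) := by rw [hcv, mul_assoc]
        _ = d := by rw [← hcomm, inv_mul_cancel_left]
  refine ⟨hAel, hAcard, ?_, fun x hx y hy hxd hyd => ?_⟩
  · have himg : {x : G | x ∈ A ∧ IsConj d x} = av '' Orbital.Orb M Count.e16 := by
      ext x
      constructor
      · rintro ⟨hx, hxd⟩
        obtain ⟨v, rfl⟩ := (hmemA x).mp hx
        exact ⟨v, (hOrb v).mpr hxd, rfl⟩
      · rintro ⟨v, hv, rfl⟩
        exact ⟨(hmemA _).mpr ⟨v, rfl⟩, (hOrb v).mp hv⟩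
    rw [himg, Set.ncard_image_of_injective _ hav_inj, Count.result hyp]
  · obtain ⟨nx, hnx, rfl⟩ := fusion x hx hxd
    obtain ⟨ny, hny, rfl⟩ := fusion y hy hyd
    exact ⟨ny * nx⁻¹, mul_mem hny (inv_mem hnx), by group⟩

end Cfsg.Agent.Spor.Fi23Thompson.Main
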